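import Groth.Agent.NormalExtend.Alg

/-!
# Integrality in a flat algebra over a normal domain is tested at discrete valuation rings
-/

universe u

open TensorProduct

namespace Groth.Agent.NormalExtend

/-- Non-zero elements of a domain are regular in a flat algebra. -/
theorem submonoid_le_of_flat {R B : Type u} [CommRing R] [CommRing B] [Algebra R B] [Module.Flat R B] :
    Algebra.algebraMapSubmonoid B (nonZeroDivisors R) ≤ nonZeroDivisors B := by
  rintro _ ⟨r, hr, rfl⟩
  refine mem_nonZeroDivisors_iff_right.mpr fun z hz => ?_
  have := Module.Flat.lTensor_preserves_injective_linearMap (M := B) (LinearMap.lsmul R R r)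
    (fun x y hxy => (mem_nonZeroDivisors_iff_left.mp hr (x - y) (by
      simpa [mul_sub, sub_eq_zero] using hxy)) |> sub_eq_zero.mp)
  have e : ∀ z : B, TensorProduct.rid R B ((LinearMap.lsmul R R r).lTensor B ((TensorProduct.rid R B).symm z)) =
      z * algebraMap R B r := fun z => by
    simp [Algebra.smul_def, _root_.mul_comm]
  refine (TensorProduct.rid R B).symm.injective (this ((TensorProduct.rid R B).injective ?_))
  rw [e, hz, map_zero, map_zero, map_zero]

set_option synthInstance.maxHeartbeats 200000 in
/-- An element of the localisation of a flat algebra at the non-zero elements of a noetherian normal domain lies in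
the algebra if it does so after a flat extension around every prime of codimension one. -/
theorem mem_range_of_forall_dvr {R B : Type u} [CommRing R] [IsDomain R] [IsNoetherianRing R]
    [IsIntegrallyClosed R] [CommRing B] [Algebra R B] [Module.Flat R B]
    (y : Localization (Algebra.algebraMapSubmonoid B (nonZeroDivisors R)))
    (h : ∀ (p : Ideal R) [p.IsPrime], p ≠ ⊥ → IsDiscreteValuationRing (Localization.AtPrime p) →
      ∃ (R' : Type u) (_ : CommRing R') (_ : Algebra R R'), Module.Flat R R' ∧ p.map (algebraMap R R') ≠ ⊤ ∧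
        ∃ y' : B ⊗[R] R', ∀ (A : Type u) [CommRing A] (χ : B ⊗[R] R' →+* A)
          (χK : Localization (Algebra.algebraMapSubmonoid B (nonZeroDivisors R)) →+* A),
          χK.comp (algebraMap B _) = χ.comp (Algebra.TensorProduct.includeLeftRingHom) → χK y = χ y') :
    y ∈ (algebraMap B (Localization (Algebra.algebraMapSubmonoid B (nonZeroDivisors R)))).range := by
  let M := Algebra.algebraMapSubmonoid B (nonZeroDivisors R)
  obtain ⟨⟨b, ⟨_, r, hr, rfl⟩⟩, he⟩ := IsLocalization.surj M y
  obtain ⟨b', hb'⟩ : algebraMap R B r ∣ b := by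
    refine dvd_of_forall_dvr (nonZeroDivisors.ne_zero hr) b fun p _ hrp hd => ?_
    obtain ⟨R', _, _, hflat, hne, y', hy'⟩ := h p (fun hp => nonZeroDivisors.ne_zero hr (by simpa [hp] using hrp)) hd
    haveI := hflat
    refine exists_dvd_of_flat p hne r b ⟨y', ?_⟩
    haveI : Module.Flat R (B ⊗[R] R') := inferInstance
    let M' := Algebra.algebraMapSubmonoid (B ⊗[R] R') (nonZeroDivisors R)
    let χ : B ⊗[R] R' →+* Localization M' := algebraMap _ _
    have hu : ∀ m : M, IsUnit ((χ.comp Algebra.TensorProduct.includeLeftRingHom) m) := by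
      rintro ⟨_, s, hs, rfl⟩
      exact IsLocalization.map_units (M := M') (Localization M')
        (⟨algebraMap R (B ⊗[R] R') s, Submonoid.mem_map.mpr ⟨s, hs, rfl⟩⟩ : M')
    let χK := IsLocalization.lift (S := Localization M) hu
    refine IsLocalization.injective (R := B ⊗[R] R') (Localization M') (M := M') submonoid_le_of_flat ?_
    show χ (b ⊗ₜ 1) = χ (algebraMap R B r ⊗ₜ 1 * y')
    have h1 := congrArg χK he
    rw [map_mul, hy' _ χ χK (IsLocalization.lift_comp hu), IsLocalization.lift_eq, IsLocalization.lift_eq] at h1
    rw [_root_.mul_comm, map_mul]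
    exact h1.symm
  refine ⟨b', ((IsLocalization.map_units (M := M) (Localization M)
    (⟨algebraMap R B r, Submonoid.mem_map.mpr ⟨r, hr, rfl⟩⟩ : M)).mul_right_cancel ?_)⟩
  rw [he, ← map_mul, hb', _root_.mul_comm]

end Groth.Agent.NormalExtend
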