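import Groth.Agent.NormalExtend.Etale
import Groth.Agent.NormalExtend.Range
import Groth.Agent.S9821

/-!
# Extension over an affine open
-/

set_option linter.style.haveILetI false

universe u

open CategoryTheory CategoryTheory.Limits MonoidalCategory CartesianMonoidalCategory MonObj GrpObj AlgebraicGeometry
open TensorProduct

namespace Groth.Agent.NormalExtend

set_option backward.isDefEq.respectTransparency.types false

variable {S : Scheme.{u}} {H T : Over S}

/-- An affine point of a scheme affine over the base comes from a ring map. -/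
theorem exists_spec_lift [IsAffineHom T.hom] {V : S.Opens} (hV : IsAffineOpen V) {A : Type u} [CommRing A]
    (χ : Γ(S, V) →+* A) (a : Over.mk (Spec.map (CommRingCat.ofHom χ) ≫ hV.fromSpec) ⟶ T) :
    ∃ ψ : Γ(T.left, T.hom ⁻¹ᵁ V) →+* A,
      Spec.map (CommRingCat.ofHom ψ) ≫ (hV.preimage T.hom).fromSpec = a.left := by
  have : Set.range a.left ⊆ Set.range (hV.preimage T.hom).fromSpec := by
    rintro _ ⟨q, rfl⟩
    rw [(hV.preimage T.hom).range_fromSpec]
    show (a.left ≫ T.hom) q ∈ V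
    rw [Over.w a, ← SetLike.mem_coe, ← hV.range_fromSpec]
    exact ⟨Spec.map (CommRingCat.ofHom χ) q, rfl⟩
  exact ⟨(Spec.preimage (IsOpenImmersion.lift (hV.preimage T.hom).fromSpec a.left this)).hom,
    (congrArg (· ≫ (hV.preimage T.hom).fromSpec) (by rw [CommRingCat.ofHom_hom, Spec.map_preimage])).trans
      (IsOpenImmersion.lift_fac _ _ _)⟩

variable [IsIntegral S] [IsLocallyNoetherian S] [GrpObj H] [GrpObj T]

set_option synthInstance.maxHeartbeats 200000 in
set_option maxHeartbeats 800000 in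
/-- Extension over an affine open of the source. -/
theorem exists_affine [Smooth H.hom] [IsAffineHom T.hom] (hnorm : Pi1.IsNormalScheme S)
    (hconn : ∀ s : S, _root_.IsConnected (H.hom ⁻¹' {s})) (hT : SGA3x.IsMultTypeFT T)
    (Φ : ∀ X : Over S, Gen X.hom → (X ⟶ H) → (X ⟶ T))
    (hnat : ∀ (X X' : Over S) (h : Gen X.hom) (h' : Gen X'.hom) (r : X' ⟶ X) (x : X ⟶ H),
      r ≫ Φ X h x = Φ X' h' (r ≫ x))
    (hmul : ∀ (X : Over S) (h : Gen X.hom) (x y : X ⟶ H), Φ X h (x * y) = Φ X h x * Φ X h y)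
    {V : S.Opens} (hV : IsAffineOpen V) [Nonempty (V : Scheme.{u})] {W : H.left.Opens} (hW : IsAffineOpen W)
    (e : W ≤ H.hom ⁻¹ᵁ V) :
    ∃ w : Over.mk (W.ι ≫ H.hom) ⟶ T, ∀ (X : Over S) (h : Gen X.hom) (r : X ⟶ Over.mk (W.ι ≫ H.hom)),
      r ≫ w = Φ X h (r ≫ Over.homMk W.ι rfl) := by
  haveI : Nonempty V := inferInstanceAs (Nonempty (V : Scheme.{u}))
  let R := Γ(S, V)
  haveI : IsNoetherianRing R := IsLocallyNoetherian.component_noetherian ⟨V, hV⟩
  haveI : IsIntegrallyClosed R := (Groth.Agent.S9821.result S).1 hnorm V hV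
  let B := Γ(H.left, W)
  let φ : R →+* B := (H.hom.appLE V W e).hom
  letI := φ.toAlgebra
  haveI : Module.Flat R B := HasRingHomProperty.appLE @Flat H.hom inferInstance ⟨V, hV⟩ ⟨W, hW⟩ e
  have hφ : Spec.map (CommRingCat.ofHom φ) ≫ hV.fromSpec = hW.fromSpec ≫ H.hom :=
    hV.SpecMap_appLE_fromSpec H.hom hW e
  let hTV := hV.preimage T.hom
  let α : R →+* Γ(T.left, T.hom ⁻¹ᵁ V) := (T.hom.appLE V (T.hom ⁻¹ᵁ V) le_rfl).hom
  have hα : Spec.map (CommRingCat.ofHom α) ≫ hV.fromSpec = hTV.fromSpec ≫ T.hom :=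
    hV.SpecMap_appLE_fromSpec T.hom hTV le_rfl
  let BK := Localization (Algebra.algebraMapSubmonoid B (nonZeroDivisors R))
  let ρ : B →+* BK := algebraMap B BK
  have hρ : Function.Injective ρ := IsLocalization.injective (R := B) BK
    (M := Algebra.algebraMapSubmonoid B (nonZeroDivisors R)) submonoid_le_of_flat
  have hunit : ∀ r : R, r ≠ 0 → IsUnit ((ρ.comp φ) r) := fun r hr =>
    IsLocalization.map_units (M := Algebra.algebraMapSubmonoid B (nonZeroDivisors R)) BK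
      ⟨φ r, Submonoid.mem_map.mpr ⟨r, mem_nonZeroDivisors_of_ne_zero hr, rfl⟩⟩
  let XK : Over S := Over.mk (Spec.map (CommRingCat.ofHom (ρ.comp φ)) ≫ hV.fromSpec)
  have hXK : Gen XK.hom := gen_of_units hV _ hunit
  let xK : XK ⟶ H := Over.homMk (Spec.map (CommRingCat.ofHom ρ) ≫ hW.fromSpec) (by
    show (_ ≫ _) ≫ H.hom = Spec.map _ ≫ hV.fromSpec
    rw [Category.assoc, ← hφ, ← Spec.map_comp_assoc]
    rfl)
  obtain ⟨ψ, hψ⟩ := exists_spec_lift hV (ρ.comp φ) (Φ XK hXK xK)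
  -- integrality
  have hint : ∀ c, ψ c ∈ ρ.range := fun c => by
    refine mem_range_of_forall_dvr (ψ c) fun p _ hp hd => ?_
    obtain ⟨R', _, φ', hflat', hne, v, hv⟩ := exists_local hconn hT Φ hnat hmul hV p hp hd
    letI := φ'.toAlgebra
    refine ⟨R', inferInstance, φ'.toAlgebra, hflat', hne, ?_⟩
    let B' := B ⊗[R] R'
    let inL : B →+* B' := Algebra.TensorProduct.includeLeftRingHom
    let inR : R' →+* B' := (Algebra.TensorProduct.includeRight : R' →ₐ[R] B').toRingHom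
    let g : Spec (CommRingCat.of R') ⟶ S := Spec.map (CommRingCat.ofHom φ') ≫ hV.fromSpec
    have hLR : inL.comp φ = inR.comp φ' :=
      RingHom.ext fun r => ((Algebra.TensorProduct.includeRight : R' →ₐ[R] B').commutes r).symm
    have hgR : Spec.map (CommRingCat.ofHom inR) ≫ g =
        Spec.map (CommRingCat.ofHom (inL.comp φ)) ≫ hV.fromSpec := by
      rw [hLR, CommRingCat.ofHom_comp, Spec.map_comp, Category.assoc]
    let Y' : Over S := Over.mk (Spec.map (CommRingCat.ofHom (inL.comp φ)) ≫ hV.fromSpec)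
    let j : Y' ⟶ (Over.map g).obj (Red.bc g H) :=
      Over.homMk (pullback.lift (Spec.map (CommRingCat.ofHom inL) ≫ hW.fromSpec) (Spec.map (CommRingCat.ofHom inR))
        (by rw [hgR, Category.assoc, ← hφ, CommRingCat.ofHom_comp, Spec.map_comp, Category.assoc])) (by
        show pullback.lift _ _ _ ≫ pullback.snd H.hom g ≫ g = _
        rw [pullback.lift_snd_assoc, hgR]
        rfl)
    obtain ⟨ψ', hψ'⟩ := exists_spec_lift hV (inL.comp φ) (j ≫ v)
    refine ⟨ψ' c, fun A _ χ χK hcomp => ?_⟩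
    let XA : Over S := Over.mk (Spec.map (CommRingCat.ofHom (χ.comp (inL.comp φ))) ≫ hV.fromSpec)
    have hXA : Gen XA.hom := gen_of_units hV _ fun r hr => by
      show IsUnit ((χ.comp inL) (φ r))
      rw [← hcomp]
      exact (hunit r hr).map χK
    let rA : XA ⟶ Y' := Over.homMk (Spec.map (CommRingCat.ofHom χ)) (by
      show Spec.map _ ≫ Spec.map _ ≫ hV.fromSpec = Spec.map _ ≫ hV.fromSpec
      rw [← Spec.map_comp_assoc]; rfl)
    let sA : XA ⟶ XK := Over.homMk (Spec.map (CommRingCat.ofHom χK)) (by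
      show Spec.map _ ≫ Spec.map _ ≫ hV.fromSpec = Spec.map _ ≫ hV.fromSpec
      rw [← Spec.map_comp_assoc, ← CommRingCat.ofHom_comp, ← RingHom.comp_assoc, hcomp])
    have hrs : (rA ≫ j) ≫ DSPtsLib.theta g (𝟙 _) = sA ≫ xK := Over.OverMorphism.ext (by
      show (Spec.map (CommRingCat.ofHom χ) ≫ pullback.lift _ _ _) ≫ 𝟙 _ ≫ pullback.fst H.hom g =
        Spec.map (CommRingCat.ofHom χK) ≫ Spec.map (CommRingCat.ofHom ρ) ≫ hW.fromSpec
      erw [Category.id_comp, Category.assoc, pullback.lift_fst]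
      rw [← Spec.map_comp_assoc, ← Spec.map_comp_assoc, ← CommRingCat.ofHom_comp, ← CommRingCat.ofHom_comp, hcomp])
    have h1 := hv XA hXA (rA ≫ j)
    rw [hrs, ← hnat XK XA hXK hXA sA xK, Category.assoc] at h1
    have h2 : Spec.map (CommRingCat.ofHom χ) ≫ Spec.map (CommRingCat.ofHom ψ') ≫ hTV.fromSpec =
        Spec.map (CommRingCat.ofHom χK) ≫ Spec.map (CommRingCat.ofHom ψ) ≫ hTV.fromSpec := by
      rw [hψ', hψ]; exact congrArg (fun k => k.left) h1
    rw [← Category.assoc, ← Category.assoc, cancel_mono, ← Spec.map_comp, ← Spec.map_comp] at h2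
    exact (RingHom.congr_fun (congrArg CommRingCat.Hom.hom (Spec.map_injective h2)) c).symm
  choose ψ₀ hψ₀ using hint
  let ψB : Γ(T.left, T.hom ⁻¹ᵁ V) →+* B :=
    { toFun := ψ₀
      map_one' := hρ (by rw [hψ₀, map_one, map_one])
      map_mul' := fun a b => hρ (by rw [hψ₀, map_mul, map_mul, hψ₀, hψ₀])
      map_zero' := hρ (by rw [hψ₀, map_zero, map_zero])
      map_add' := fun a b => hρ (by rw [hψ₀, map_add, map_add, hψ₀, hψ₀]) }
  have hψB : ρ.comp ψB = ψ := RingHom.ext hψ₀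
  have hψα : ψB.comp α = φ := by
    have h1 := Over.w (Φ XK hXK xK)
    rw [← hψ, Category.assoc, ← hα, show XK.hom = Spec.map (CommRingCat.ofHom (ρ.comp φ)) ≫ hV.fromSpec from rfl,
      ← Category.assoc, cancel_mono, ← Spec.map_comp] at h1
    refine RingHom.ext fun r => hρ ?_
    show ρ (ψB (α r)) = ρ (φ r)
    rw [← RingHom.comp_apply ρ ψB, hψB]
    exact RingHom.congr_fun (congrArg CommRingCat.Hom.hom (Spec.map_injective h1)) r
  let WS : Over S := Over.mk (Spec.map (CommRingCat.ofHom φ) ≫ hV.fromSpec)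
  let toWS : Over.mk (W.ι ≫ H.hom) ⟶ WS := Over.homMk hW.isoSpec.hom (by
    show hW.isoSpec.hom ≫ Spec.map _ ≫ hV.fromSpec = W.ι ≫ H.hom
    rw [hφ, IsAffineOpen.isoSpec_hom_fromSpec_assoc])
  let wS : WS ⟶ T := Over.homMk (Spec.map (CommRingCat.ofHom ψB) ≫ hTV.fromSpec) (by
    show (_ ≫ _) ≫ T.hom = Spec.map _ ≫ hV.fromSpec
    rw [Category.assoc, ← hα, ← Spec.map_comp_assoc, ← CommRingCat.ofHom_comp, hψα])
  refine ⟨toWS ≫ wS, fun X h r => Over.OverMorphism.ext (Scheme.hom_ext_of_forall _ _ fun x => ?_)⟩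
  obtain ⟨U, hU, hxU, -⟩ := exists_isAffineOpen_mem_and_subset (show x ∈ (⊤ : X.left.Opens) from trivial)
  refine ⟨U, hxU, ?_⟩
  let A := Γ(X.left, U)
  let χ : B →+* A := (Spec.preimage (hU.fromSpec ≫ r.left ≫ hW.isoSpec.hom)).hom
  have hχ : Spec.map (CommRingCat.ofHom χ) = hU.fromSpec ≫ r.left ≫ hW.isoSpec.hom := Spec.map_preimage _
  let XU : Over S := Over.mk (hU.fromSpec ≫ X.hom)
  let iU : XU ⟶ X := Over.homMk hU.fromSpec rfl
  have hXU : Gen XU.hom := h.comp hU.fromSpec rfl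
  have hXUhom : XU.hom = Spec.map (CommRingCat.ofHom (χ.comp φ)) ≫ hV.fromSpec := by
    rw [CommRingCat.ofHom_comp, Spec.map_comp, hχ]
    show hU.fromSpec ≫ X.hom = ((hU.fromSpec ≫ r.left ≫ hW.isoSpec.hom) ≫ _) ≫ _
    rw [Category.assoc, hφ, Category.assoc, Category.assoc, IsAffineOpen.isoSpec_hom_fromSpec_assoc]
    exact congrArg (hU.fromSpec ≫ ·) (Over.w r).symm
  have hu : ∀ m : Algebra.algebraMapSubmonoid B (nonZeroDivisors R), IsUnit (χ m) := by
    rintro ⟨_, s, hs, rfl⟩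
    exact isUnit_of_gen hV (χ.comp φ) (hXUhom ▸ hXU) (nonZeroDivisors.ne_zero hs)
  let χK : BK →+* A := IsLocalization.lift hu
  have hcomp : χK.comp ρ = χ := IsLocalization.lift_comp hu
  let sU : XU ⟶ XK := Over.homMk (Spec.map (CommRingCat.ofHom χK)) (by
    show Spec.map _ ≫ Spec.map _ ≫ hV.fromSpec = XU.hom
    rw [hXUhom, ← Spec.map_comp_assoc, ← CommRingCat.ofHom_comp, ← RingHom.comp_assoc, hcomp])
  have hx : sU ≫ xK = iU ≫ r ≫ Over.homMk W.ι rfl := Over.OverMorphism.ext (by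
    show Spec.map (CommRingCat.ofHom χK) ≫ Spec.map (CommRingCat.ofHom ρ) ≫ hW.fromSpec =
      hU.fromSpec ≫ r.left ≫ W.ι
    rw [← Spec.map_comp_assoc, ← CommRingCat.ofHom_comp, hcomp, hχ, Category.assoc, Category.assoc,
      IsAffineOpen.isoSpec_hom_fromSpec])
  have h1 : iU ≫ Φ X h (r ≫ Over.homMk W.ι rfl) = sU ≫ Φ XK hXK xK := by
    rw [hnat X XU h hXU, hnat XK XU hXK hXU, hx]
  have h2 : hU.fromSpec ≫ (r ≫ toWS ≫ wS).left = hU.fromSpec ≫ (Φ X h (r ≫ Over.homMk W.ι rfl)).left := by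
    refine Eq.trans ?_ (congrArg (fun k => k.left) h1).symm
    show hU.fromSpec ≫ r.left ≫ hW.isoSpec.hom ≫ Spec.map (CommRingCat.ofHom ψB) ≫ hTV.fromSpec =
      Spec.map (CommRingCat.ofHom χK) ≫ Over.Hom.left (Φ XK hXK xK)
    rw [← hψ, ← reassoc_of% hχ, ← Spec.map_comp_assoc, ← Spec.map_comp_assoc, ← CommRingCat.ofHom_comp,
      ← CommRingCat.ofHom_comp, show χ.comp ψB = χK.comp ψ by rw [← hψB, ← RingHom.comp_assoc, hcomp]]
  rw [← hU.isoSpec_hom_fromSpec, Category.assoc, Category.assoc, h2]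

end Groth.Agent.NormalExtend
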