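import Groth.Agent.CAlgOdd.NagataFT.Basic
import Mathlib.RingTheory.TensorProduct.Quotient
import Mathlib.LinearAlgebra.TensorProduct.Pi
import Mathlib.RingTheory.Flat.Basic

/-!
# Divisibility in flat algebras over normal domains is tested at discrete valuation rings
-/

universe u

open TensorProduct

namespace Groth.Agent.NormalExtend

/- A divisibility in a flat algebra over a noetherian normal domain holds if it does at every prime whose local ring
is a discrete valuation ring. -/
set_option synthInstance.maxHeartbeats 200000 in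
theorem dvd_of_forall_dvr {R B : Type u} [CommRing R] [IsDomain R] [IsNoetherianRing R] [IsIntegrallyClosed R]
    [CommRing B] [Algebra R B] [Module.Flat R B] {r : R} (hr : r ≠ 0) (b : B)
    (h : ∀ (p : Ideal R) [p.IsPrime], r ∈ p → IsDiscreteValuationRing (Localization.AtPrime p) →
      ∃ s ∉ p, algebraMap R B r ∣ algebraMap R B s * b) :
    algebraMap R B r ∣ b := by
  classical
  let M := R ⧸ Ideal.span {r}
  have hfin : (associatedPrimes R M).Finite := associatedPrimes.finite R M
  haveI := hfin.fintype
  haveI : ∀ p : associatedPrimes R M, (p : Ideal R).IsPrime := fun p => (AssociatedPrimes.mem_iff.mp p.2).isPrime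
  let ι : M →ₗ[R] ∀ p : associatedPrimes R M, LocalizedModule (p : Ideal R).primeCompl M :=
    LinearMap.pi fun p => LocalizedModule.mkLinearMap _ _
  have hι : Function.Injective ι := by
    refine (injective_iff_map_eq_zero ι).mpr fun x hx => by_contra fun hx0 => ?_
    obtain ⟨P, hP, hle⟩ := exists_le_isAssociatedPrime_of_isNoetherianRing R x hx0
    haveI := hP.isPrime
    have h1 := congrFun hx ⟨P, AssociatedPrimes.mem_iff.mpr hP⟩
    simp only [ι, LinearMap.pi_apply, Pi.zero_apply, LocalizedModule.mkLinearMap_apply] at h1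
    rw [← LocalizedModule.zero_mk (1 : P.primeCompl), LocalizedModule.mk_eq] at h1
    obtain ⟨s, hs⟩ := h1
    refine s.2 (hle ?_)
    simp only [one_smul, smul_zero] at hs
    rw [Submodule.mem_colon_singleton, Submodule.mem_bot]
    simpa [Submonoid.smul_def] using hs
  let x : B ⊗[R] M := b ⊗ₜ Ideal.Quotient.mk _ 1
  have hx : x = 0 := by
    refine Module.Flat.lTensor_preserves_injective_linearMap (M := B) ι hι ?_
    rw [map_zero]
    refine (TensorProduct.piRight R R B _).injective ?_
    rw [map_zero]
    funext p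
    have hrp : r ∈ (p : Ideal R) := (AssociatedPrimes.mem_iff.mp p.2).annihilator_le
      (Submodule.mem_annihilator.mpr fun y _ => by
        obtain ⟨y, rfl⟩ := Ideal.Quotient.mk_surjective y
        exact Ideal.Quotient.eq_zero_iff_mem.mpr (Ideal.mem_span_singleton.mpr ⟨y, rfl⟩))
    obtain ⟨s, hs, b', hb'⟩ := h p hrp (CAlgOdd.NagataFT.isDVR_of_mem_ass hr _ p.2)
    simp only [x, LinearMap.lTensor_tmul, TensorProduct.piRight_apply, TensorProduct.piRightHom_tmul, Pi.zero_apply,
      ι, LinearMap.pi_apply, LocalizedModule.mkLinearMap_apply]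
    have e : LocalizedModule.mk (Ideal.Quotient.mk (Ideal.span {r}) 1) (1 : (p : Ideal R).primeCompl) =
        s • LocalizedModule.mk (Ideal.Quotient.mk (Ideal.span {r}) 1) (⟨s, hs⟩ : (p : Ideal R).primeCompl) := by
      rw [LocalizedModule.smul'_mk, LocalizedModule.mk_eq]
      exact ⟨1, by simp [Submonoid.smul_def]⟩
    rw [e, ← TensorProduct.smul_tmul, Algebra.smul_def, hb', ← Algebra.smul_def, TensorProduct.smul_tmul,
      LocalizedModule.smul'_mk, Algebra.smul_def]
    rw [show algebraMap R (R ⧸ Ideal.span {r}) r = 0 from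
      Ideal.Quotient.eq_zero_iff_mem.mpr (Ideal.mem_span_singleton_self r), zero_mul, LocalizedModule.zero_mk,
      TensorProduct.tmul_zero]
  have h2 := congrArg (Algebra.TensorProduct.quotIdealMapEquivTensorQuot B (Ideal.span {r})).symm hx
  rw [map_zero] at h2
  rw [show (Algebra.TensorProduct.quotIdealMapEquivTensorQuot B (Ideal.span {r})).symm x = Ideal.Quotient.mk _ b by
    rw [AlgEquiv.symm_apply_eq]; rfl] at h2
  have h3 := Ideal.Quotient.eq_zero_iff_mem.mp h2
  rw [Ideal.map_span, Set.image_singleton, Ideal.mem_span_singleton] at h3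
  exact h3

/-- A divisibility holding after a faithfully flat extension of the localisation at a prime holds after multiplication
by an element outside the prime. -/
theorem exists_dvd_of_flat {R B R' : Type u} [CommRing R] [CommRing B] [Algebra R B] [CommRing R'] [Algebra R R']
    [Module.Flat R R'] (p : Ideal R) (hp : p.map (algebraMap R R') ≠ ⊤) (r : R) (b : B)
    (h : (algebraMap R B r) ⊗ₜ[R] (1 : R') ∣ b ⊗ₜ[R] (1 : R')) :
    ∃ s ∉ p, algebraMap R B r ∣ algebraMap R B s * b := by
  by_contra hne
  push Not at hne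
  let N := B ⧸ Ideal.span {algebraMap R B r}
  let I : Ideal R := LinearMap.ker (LinearMap.toSpanSingleton R N (Ideal.Quotient.mk _ b))
  have hI : I ≤ p := fun s hs => by_contra fun hsp => hne s hsp (by
    rw [LinearMap.mem_ker, LinearMap.toSpanSingleton_apply, Algebra.smul_def] at hs
    exact Ideal.mem_span_singleton.mp (Ideal.Quotient.eq_zero_iff_mem.mp hs))
  let q : (R ⧸ I) →ₗ[R] N := Submodule.liftQ I (LinearMap.toSpanSingleton R N (Ideal.Quotient.mk _ b)) le_rfl
  have hq : Function.Injective q := LinearMap.ker_eq_bot.mp (Submodule.ker_liftQ_eq_bot _ _ _ le_rfl)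
  have h1 := Module.Flat.lTensor_preserves_injective_linearMap (M := R') q hq
  have h2 : (1 : R') ⊗ₜ[R] (Ideal.Quotient.mk I 1) = 0 := by
    refine h1 ?_
    rw [map_zero, LinearMap.lTensor_tmul,
      show q (Ideal.Quotient.mk I 1) = Ideal.Quotient.mk _ b from
        (Submodule.liftQ_apply I (LinearMap.toSpanSingleton R N (Ideal.Quotient.mk _ b)) 1).trans (one_smul R _)]
    let φ : B ⊗[R] R' →ₗ[R] R' ⊗[R] N :=
      (LinearMap.lTensor R' (Ideal.Quotient.mkₐ R _).toLinearMap) ∘ₗ (TensorProduct.comm R B R').toLinearMap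
    obtain ⟨c, hc⟩ := h
    have hφ : φ (b ⊗ₜ 1) = 0 := by
      rw [hc]
      clear hc
      induction c using TensorProduct.induction_on with
      | zero => rw [mul_zero, map_zero]
      | tmul x y =>
        rw [Algebra.TensorProduct.tmul_mul_tmul, _root_.one_mul]
        show y ⊗ₜ Ideal.Quotient.mk _ (algebraMap R B r * x) = _
        rw [Ideal.Quotient.eq_zero_iff_mem.mpr (Ideal.mem_span_singleton.mpr ⟨x, rfl⟩), TensorProduct.tmul_zero]
      | add x y hx hy => rw [mul_add, map_add, hx, hy, add_zero]
    exact hφ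
  have h3 := congrArg (Algebra.TensorProduct.quotIdealMapEquivTensorQuot R' I).symm h2
  rw [map_zero, show (Algebra.TensorProduct.quotIdealMapEquivTensorQuot R' I).symm (1 ⊗ₜ Ideal.Quotient.mk I 1) =
    Ideal.Quotient.mk _ (1 : R') by rw [AlgEquiv.symm_apply_eq]; rfl] at h3
  exact hp (top_le_iff.mp (((Ideal.eq_top_iff_one _).mpr (Ideal.Quotient.eq_zero_iff_mem.mp h3)).ge.trans
    (Ideal.map_mono hI)))

end Groth.Agent.NormalExtend
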