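import Groth.Agent.NormalExtend.Unit
import Mathlib.AlgebraicGeometry.Pullbacks
import Mathlib.AlgebraicGeometry.Properties
import Mathlib.AlgebraicGeometry.Morphisms.ClosedImmersion
import Mathlib.RingTheory.TensorProduct.Quotient

/-!
# A closed fibre which is integral
-/

set_option linter.style.haveILetI false

universe u

open CategoryTheory CategoryTheory.Limits AlgebraicGeometry TopologicalSpace TensorProduct

namespace Groth.Agent.NormalExtend

set_option backward.isDefEq.respectTransparency.types false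

variable {R : Type u} [CommRing R] [IsLocalRing R] {π : R} (hm : IsLocalRing.maximalIdeal R = Ideal.span {π})
  {X : Scheme.{u}} (q : X ⟶ Spec (CommRingCat.of R))
include hm

theorem mem_locus_iff (x : X) : x ∈ locus π q ↔ q x ≠ IsLocalRing.closedPoint R := by
  have h : locus π q = q ⁻¹ᵁ (Spec (CommRingCat.of R)).basicOpen ((Scheme.ΓSpecIso (CommRingCat.of R)).inv π) := by
    rw [Scheme.preimage_basicOpen]
    rfl
  rw [h, show x ∈ q ⁻¹ᵁ (Spec (CommRingCat.of R)).basicOpen ((Scheme.ΓSpecIso (CommRingCat.of R)).inv π) ↔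
    q x ∈ (Spec (CommRingCat.of R)).basicOpen ((Scheme.ΓSpecIso (CommRingCat.of R)).inv π) from Iff.rfl,
    basicOpen_eq_of_affine]
  constructor
  · intro hx he
    rw [he] at hx
    exact hx (show π ∈ IsLocalRing.maximalIdeal R from hm ▸ Ideal.mem_span_singleton_self π)
  · intro hne hx
    refine hne (PrimeSpectrum.ext (le_antisymm (IsLocalRing.le_maximalIdeal (q x).2.ne_top) ?_))
    show IsLocalRing.maximalIdeal R ≤ (q x).asIdeal
    rw [hm, Ideal.span_le]
    simpa using hx

omit hm in
theorem flat_reg (hπ : π ∈ nonZeroDivisors R) [Flat q] (W : X.Opens) (hW : IsAffineOpen W) :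
    piOn π q W ∈ nonZeroDivisors Γ(X, W) := by
  let φ : R →+* Γ(X, W) := (Scheme.ΓSpecIso (CommRingCat.of R)).inv.hom |> (q.appLE ⊤ W le_top).hom.comp
  have hflat : (q.appLE ⊤ W le_top).hom.Flat := HasRingHomProperty.appLE @Flat q ‹_› ⟨⊤, isAffineOpen_top _⟩ ⟨W, hW⟩ le_top
  have hφf : φ.Flat := RingHom.Flat.comp
    (RingHom.Flat.of_bijective (Scheme.ΓSpecIso (CommRingCat.of R)).symm.commRingCatIsoToRingEquiv.bijective) hflat
  have he : piOn π q W = φ π := by
    show X.presheaf.map _ (q.app ⊤ _) = (q.appLE ⊤ W le_top) _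
    rw [Scheme.Hom.appLE]
    rfl
  algebraize [φ]
  rw [he]
  refine mem_nonZeroDivisors_iff_right.mpr fun z hz => ?_
  have := Module.Flat.lTensor_preserves_injective_linearMap (M := Γ(X, W)) (LinearMap.lsmul R R π)
    (fun x y hxy => sub_eq_zero.mp ((mem_nonZeroDivisors_iff_left.mp hπ) (x - y) (by
      simpa [mul_sub, sub_eq_zero] using hxy)))
  have e : ∀ z : Γ(X, W), TensorProduct.rid R Γ(X, W)
      ((LinearMap.lsmul R R π).lTensor Γ(X, W) ((TensorProduct.rid R Γ(X, W)).symm z)) = z * φ π := fun z => by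
    simp [Algebra.smul_def, _root_.mul_comm, RingHom.algebraMap_toAlgebra]
  refine (TensorProduct.rid R Γ(X, W)).symm.injective (this ((TensorProduct.rid R Γ(X, W)).injective ?_))
  rw [e, hz, map_zero, map_zero, map_zero]

variable [IsIntegral (pullback q (Spec.map (CommRingCat.ofHom (IsLocalRing.residue R))))]

/-- Two opens meeting the closed fibre meet there. -/
theorem fibre_irr (W W' : X.Opens) (h : ∃ x ∈ W, x ∉ locus π q) (h' : ∃ x ∈ W', x ∉ locus π q) :
    ∃ x ∈ W ⊓ W', x ∉ locus π q := by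
  let ι := pullback.fst q (Spec.map (CommRingCat.ofHom (IsLocalRing.residue R)))
  have hne : ∀ U : X.Opens, (∃ x ∈ U, x ∉ locus π q) → (ι ⁻¹' (U : Set X)).Nonempty := by
    rintro U ⟨x, hxU, hx⟩
    rw [mem_locus_iff hm, not_not] at hx
    obtain ⟨z, hz, -⟩ := Scheme.Pullback.exists_preimage_pullback (f := q)
      (g := Spec.map (CommRingCat.ofHom (IsLocalRing.residue R))) x (IsLocalRing.closedPoint _)
      (by rw [hx]; exact (IsLocalRing.comap_closedPoint (IsLocalRing.residue R)).symm)
    exact ⟨z, show ι z ∈ U by rw [hz]; exact hxU⟩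
  obtain ⟨z, hz, hz'⟩ := nonempty_preirreducible_inter (W.2.preimage ι.continuous) (W'.2.preimage ι.continuous)
    (hne W h) (hne W' h')
  refine ⟨ι z, ⟨hz, hz'⟩, ?_⟩
  rw [mem_locus_iff hm, not_not, ← Scheme.Hom.comp_apply, pullback.condition, Scheme.Hom.comp_apply]
  exact IsLocalRing.comap_closedPoint (IsLocalRing.residue R) |> fun e =>
    (congrArg _ (Subsingleton.elim (α := PrimeSpectrum (IsLocalRing.ResidueField R)) _ _)).trans e

/-- The function cutting out the closed fibre generates a prime ideal. -/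
theorem fibre_prime (W : X.Opens) (hW : IsAffineOpen W) (h : ∃ x ∈ W, x ∉ locus π q) :
    (Ideal.span {piOn π q W}).IsPrime := by
  let k := IsLocalRing.ResidueField R
  let A := Γ(X, W)
  let φ : CommRingCat.of R ⟶ A := Spec.preimage (hW.fromSpec ≫ q)
  letI := φ.hom.toAlgebra
  have hφ : Spec.map (CommRingCat.ofHom (algebraMap R A)) = hW.fromSpec ≫ q := Spec.map_preimage _
  have hπA : algebraMap R A π = piOn π q W := by
    show φ.hom π = _
    have h1 : q.appLE ⊤ W le_top = (Scheme.ΓSpecIso (CommRingCat.of R)).hom ≫ φ := by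
      apply Spec.map_injective
      rw [Spec.map_comp, Spec.map_preimage, ← cancel_mono (isAffineOpen_top (Spec (CommRingCat.of R))).fromSpec,
        IsAffineOpen.SpecMap_appLE_fromSpec q (isAffineOpen_top _) hW, Category.assoc, IsAffineOpen.fromSpec_top]
      simp [Scheme.isoSpec_Spec]
    have h2 := congrArg (fun k => (ConcreteCategory.hom k) ((Scheme.ΓSpecIso (CommRingCat.of R)).inv π)) h1
    simp only [ConcreteCategory.comp_apply, Iso.inv_hom_id_apply] at h2
    rw [← show (q.appLE ⊤ W le_top) ((Scheme.ΓSpecIso (CommRingCat.of R)).inv π) = piOn π q W by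
      rw [Scheme.Hom.appLE]; rfl]
    exact h2.symm
  let j := Spec.map (CommRingCat.ofHom (IsLocalRing.residue R))
  haveI : IsOpenImmersion (pullback.snd hW.fromSpec (pullback.fst q j)) := inferInstance
  let e : Spec (CommRingCat.of (A ⊗[R] k)) ⟶ pullback q j := (pullbackSpecIso R A k).inv ≫
    (pullback.congrHom hφ (rfl : Spec.map (CommRingCat.ofHom (algebraMap R k)) = j)).hom ≫
    (pullbackRightPullbackFstIso q j hW.fromSpec).inv ≫ pullback.snd hW.fromSpec (pullback.fst q j)
  haveI : IsOpenImmersion e := inferInstance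
  haveI : Nonempty (Spec (CommRingCat.of (A ⊗[R] k))) := by
    obtain ⟨x, hxW, hx⟩ := h
    rw [mem_locus_iff hm, not_not] at hx
    obtain ⟨z, hz⟩ : x ∈ Set.range hW.fromSpec := by rw [hW.range_fromSpec]; exact hxW
    obtain ⟨w, -, -⟩ := Scheme.Pullback.exists_preimage_pullback (f := Spec.map (CommRingCat.ofHom (algebraMap R A)))
      (g := Spec.map (CommRingCat.ofHom (algebraMap R k))) z (IsLocalRing.closedPoint _)
      (by rw [hφ, Scheme.Hom.comp_apply, hz, hx]; exact (IsLocalRing.comap_closedPoint (IsLocalRing.residue R)).symm)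
    exact ⟨(pullbackSpecIso R A k).hom w⟩
  haveI := isIntegral_of_isOpenImmersion e
  haveI : IsDomain (A ⊗[R] k) := (affine_isIntegral_iff (CommRingCat.of (A ⊗[R] k))).mp ‹_›
  haveI : IsDomain (A ⧸ (IsLocalRing.maximalIdeal R).map (algebraMap R A)) :=
    MulEquiv.isDomain (A ⊗[R] k)
      (Algebra.TensorProduct.quotIdealMapEquivTensorQuot A (IsLocalRing.maximalIdeal R)).toMulEquiv
  have := (Ideal.Quotient.isDomain_iff_prime _).mp this
  rwa [hm, Ideal.map_span, Set.image_singleton, hπA] at this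

end Groth.Agent.NormalExtend
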