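import Groth.Agent.NormalExtend.Generic
import Groth.Agent.NormalExtend.Fibre
import Groth.Agent.HomRepLib.Apply
import Groth.Agent.HomRepLib.DiagHom
import Groth.Agent.MultTypeQI.EtaleLocal
import Groth.Agent.MorLib.WeightFlat
import Groth.Agent.GrpSchLib.FibreIrr
import Groth.Agent.GrpSchLib.SmoothReduced
import Groth.Agent.GrpSchLib.FieldSmooth
import Mathlib.RingTheory.DiscreteValuationRing.Basic

/-!
# Extension near a point of codimension one
-/

set_option linter.style.haveILetI false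

universe u

open CategoryTheory CategoryTheory.Limits MonoidalCategory CartesianMonoidalCategory MonObj GrpObj AlgebraicGeometry

namespace Groth.Agent.NormalExtend

set_option backward.isDefEq.respectTransparency.types false

/-- The data of an etale neighbourhood of a point with discrete valuation ring. -/
theorem exists_stalk_data {S S' : Scheme.{u}} (f : S' ⟶ S) [Etale f] {V : S.Opens} (hV : IsAffineOpen V)
    [IsDomain Γ(S, V)] (p : Ideal Γ(S, V)) [p.IsPrime] (hp : p ≠ ⊥)
    (hd : IsDiscreteValuationRing (Localization.AtPrime p)) (y : S') (hy : f y = hV.fromSpec ⟨p, inferInstance⟩) :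
    ∃ φ : Γ(S, V) →+* S'.presheaf.stalk y,
      Spec.map (CommRingCat.ofHom φ) ≫ hV.fromSpec = S'.fromSpecStalk y ≫ f ∧
      φ.Flat ∧ p.map φ ≠ ⊤ ∧
      ∃ π : Γ(S, V), π ≠ 0 ∧ IsLocalRing.maximalIdeal (S'.presheaf.stalk y) = Ideal.span {φ π} ∧
        ∀ r ≠ 0, ∀ {A : Type u} [CommRing A] (ψ : S'.presheaf.stalk y →+* A),
          IsUnit (ψ (φ π)) → IsUnit (ψ (φ r)) := by
  let R := Γ(S, V)
  let z : PrimeSpectrum R := ⟨p, inferInstance⟩
  have hzV : f y ∈ V := by rw [hy, ← SetLike.mem_coe, ← hV.range_fromSpec]; exact ⟨z, rfl⟩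
  have hr : Set.range (S'.fromSpecStalk y ≫ f) ⊆ Set.range hV.fromSpec := by
    rintro _ ⟨w, rfl⟩
    rw [hV.range_fromSpec]
    have hw : S'.fromSpecStalk y w ⤳ y := by
      have : S'.fromSpecStalk y w ∈ Set.range (S'.fromSpecStalk y) := ⟨w, rfl⟩
      rwa [Scheme.range_fromSpecStalk] at this
    exact (hw.map f.continuous).mem_open V.2 hzV
  let φ' := Spec.preimage (IsOpenImmersion.lift hV.fromSpec _ hr)
  have hφ : Spec.map φ' ≫ hV.fromSpec = S'.fromSpecStalk y ≫ f :=
    (congrArg (· ≫ hV.fromSpec) (Spec.map_preimage _)).trans (IsOpenImmersion.lift_fac _ _ _)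
  -- through the stalk of the base
  let ψ : R →+* S.presheaf.stalk (f y) := (S.presheaf.germ V (f y) hzV).hom
  have hfac : φ'.hom = (f.stalkMap y).hom.comp ψ := by
    have h2 : φ' = CommRingCat.ofHom ψ ≫ f.stalkMap y := by
      apply Spec.map_injective
      rw [← cancel_mono hV.fromSpec, hφ, Spec.map_comp, Category.assoc]
      refine (Scheme.SpecMap_stalkMap_fromSpecStalk f (x := y)).symm.trans ?_
      rw [← hV.fromSpecStalk_eq_fromSpecStalk hzV]
      rfl
    exact congrArg CommRingCat.Hom.hom h2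
  letI : Algebra R (S.presheaf.stalk (f y)) := ψ.toAlgebra
  have hloc : IsLocalization.AtPrime (S.presheaf.stalk (f y)) p := by
    have h := hV.isLocalization_stalk ⟨f y, hzV⟩
    have hz : hV.primeIdealOf ⟨f y, hzV⟩ = z :=
      hV.fromSpec.isOpenEmbedding.injective ((hV.fromSpec_primeIdealOf ⟨f y, hzV⟩).trans hy)
    rw [hz] at h
    exact h
  have hmaxS : IsLocalRing.maximalIdeal (S.presheaf.stalk (f y)) = p.map ψ :=
    (IsLocalization.AtPrime.map_eq_maximalIdeal p (S.presheaf.stalk (f y))).symm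
  have hmax' : IsLocalRing.maximalIdeal (S'.presheaf.stalk y) = p.map φ'.hom := by
    rw [← MorLib.WT.map_maximalIdeal_stalkMap f y]
    show Ideal.map (f.stalkMap y).hom (IsLocalRing.maximalIdeal _) = _
    rw [hmaxS, Ideal.map_map, hfac]
  have hflat : φ'.hom.Flat := by
    haveI : Flat (Spec.map φ' ≫ hV.fromSpec) := by
      rw [hφ]
      haveI := GrpSchLib.flat_fromSpecStalk y
      infer_instance
    haveI : Flat (Spec.map φ') := MorphismProperty.of_postcomp (W := @Flat) (W' := @IsOpenImmersion)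
      (Spec.map φ') hV.fromSpec inferInstance ‹_›
    exact (HasRingHomProperty.Spec_iff (P := @Flat)).mp ‹_›
  -- uniformiser
  let Rp := Localization.AtPrime p
  obtain ⟨ϖ, hϖ⟩ := IsDiscreteValuationRing.exists_irreducible Rp
  obtain ⟨a, s, hs⟩ := IsLocalization.exists_mk'_eq p.primeCompl ϖ
  have hspan : IsLocalRing.maximalIdeal Rp = Ideal.span {algebraMap R Rp a} := by
    rw [hϖ.maximalIdeal_eq]
    refine Ideal.span_singleton_eq_span_singleton.mpr ⟨(IsLocalization.map_units Rp s).unit, ?_⟩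
    rw [IsUnit.unit_spec, ← hs]
    exact IsLocalization.mk'_spec Rp a s
  have ha0 : a ≠ 0 := fun h => hϖ.ne_zero (by rw [← hs, h, IsLocalization.mk'_zero])
  have key : ∀ r ≠ (0 : R), ∃ (k : ℕ) (s t : R), s ∉ p ∧ t ∉ p ∧ s * r = t * a ^ k := by
    intro r hr0
    have hinj := IsLocalization.injective Rp p.primeCompl_le_nonZeroDivisors
    obtain ⟨k, w, hw⟩ := IsDiscreteValuationRing.eq_unit_mul_pow_irreducible
      (x := algebraMap R Rp r) (fun h => hr0 (hinj (by rw [h, map_zero]))) hϖ
    obtain ⟨t, s', hts⟩ := IsLocalization.exists_mk'_eq p.primeCompl ((w : Rp))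
    have ht : t ∉ p := fun ht => by
      have h2 : (w : Rp) ∈ IsLocalRing.maximalIdeal Rp := by
        rw [← hts]
        exact (IsLocalization.AtPrime.mk'_mem_maximal_iff Rp p t s').mpr ht
      exact h2 w.isUnit
    refine ⟨k, (s' : R) * (s : R) ^ k, t, ?_, ht, hinj ?_⟩
    · exact (p.primeCompl.mul_mem s'.2 (pow_mem s.2 k))
    · simp only [map_mul, map_pow]
      rw [hw, ← hts, ← hs]
      calc algebraMap R Rp s' * algebraMap R Rp s ^ k * (IsLocalization.mk' Rp t s' * IsLocalization.mk' Rp a s ^ k)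
          = (IsLocalization.mk' Rp t s' * algebraMap R Rp s') *
              (IsLocalization.mk' Rp a s * algebraMap R Rp s) ^ k := by ring
        _ = algebraMap R Rp t * algebraMap R Rp a ^ k := by rw [IsLocalization.mk'_spec, IsLocalization.mk'_spec]
  have hunit : ∀ s : R, s ∉ p → IsUnit (φ'.hom s) := by
    intro s hs
    rw [hfac]
    exact (IsLocalization.map_units (S.presheaf.stalk (f y)) (⟨s, hs⟩ : p.primeCompl)).map (f.stalkMap y).hom
  have hap : a ∈ p := by
    refine by_contra fun ha => hϖ.not_isUnit ?_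
    rw [← hs]
    exact (IsLocalization.AtPrime.isUnit_mk'_iff Rp p a s).mpr ha
  have hspan' : p.map φ'.hom = Ideal.span {φ'.hom a} := by
    refine le_antisymm (Ideal.map_le_iff_le_comap.mpr fun x hx => ?_) ((Ideal.span_singleton_le_iff_mem _).mpr
      (Ideal.mem_map_of_mem _ hap))
    have hx' : algebraMap R Rp x ∈ IsLocalRing.maximalIdeal Rp := by
      rw [← Localization.AtPrime.map_eq_maximalIdeal]
      exact Ideal.mem_map_of_mem _ hx
    rw [hspan, Ideal.mem_span_singleton] at hx'
    obtain ⟨c, hc⟩ := hx'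
    obtain ⟨c', s', rfl⟩ := IsLocalization.exists_mk'_eq p.primeCompl c
    have h1 : (s' : R) * x = a * c' := by
      apply IsLocalization.injective Rp p.primeCompl_le_nonZeroDivisors
      rw [map_mul, map_mul, hc, _root_.mul_comm, _root_.mul_assoc, IsLocalization.mk'_spec]
    show φ'.hom x ∈ Ideal.span {φ'.hom a}
    refine (Ideal.unit_mul_mem_iff_mem _ (hunit s' s'.2)).mp ?_
    rw [Ideal.mem_span_singleton, ← map_mul, h1, map_mul]
    exact dvd_mul_right _ _
  refine ⟨φ'.hom, hφ, hflat, fun h => ?_, a, ha0, hmax'.trans hspan', fun r hr0 A _ χ hu => ?_⟩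
  · exact (IsLocalRing.maximalIdeal.isMaximal (S'.presheaf.stalk y)).ne_top (hmax'.trans h)
  · obtain ⟨k, s, t, hs, ht, he⟩ := key r hr0
    have h1 : IsUnit (χ (φ'.hom (t * a ^ k))) := by
      rw [map_mul, map_mul, map_pow, map_pow]
      exact ((hunit t ht).map χ).mul (hu.pow k)
    rw [← he, map_mul, map_mul] at h1
    exact isUnit_of_mul_isUnit_right h1

variable {S : Scheme.{u}} [IsIntegral S] {H T : Over S} [GrpObj H] [GrpObj T]

/-- Extension over an etale neighbourhood of a point of codimension one. -/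
theorem exists_local [Smooth H.hom] (hconn : ∀ s : S, _root_.IsConnected (H.hom ⁻¹' {s}))
    (hT : SGA3x.IsMultTypeFT T) (Φ : ∀ X : Over S, Gen X.hom → (X ⟶ H) → (X ⟶ T))
    (hnat : ∀ (X X' : Over S) (h : Gen X.hom) (h' : Gen X'.hom) (r : X' ⟶ X) (x : X ⟶ H),
      r ≫ Φ X h x = Φ X' h' (r ≫ x))
    (hmul : ∀ (X : Over S) (h : Gen X.hom) (x y : X ⟶ H), Φ X h (x * y) = Φ X h x * Φ X h y)
    {V : S.Opens} (hV : IsAffineOpen V) [Nonempty (V : Scheme.{u})] [IsDomain Γ(S, V)]
    (p : Ideal Γ(S, V)) [p.IsPrime] (hp : p ≠ ⊥) (hd : IsDiscreteValuationRing (Localization.AtPrime p)) :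
    ∃ (R' : Type u) (_ : CommRing R') (φ : Γ(S, V) →+* R'), φ.Flat ∧ p.map φ ≠ ⊤ ∧
      ∃ v : (Over.map (Spec.map (CommRingCat.ofHom φ) ≫ hV.fromSpec)).obj
          (Red.bc (Spec.map (CommRingCat.ofHom φ) ≫ hV.fromSpec) H) ⟶ T,
        ∀ (X : Over S) (h : Gen X.hom) (r : X ⟶ (Over.map (Spec.map (CommRingCat.ofHom φ) ≫ hV.fromSpec)).obj
            (Red.bc (Spec.map (CommRingCat.ofHom φ) ≫ hV.fromSpec) H)),
          r ≫ v = Φ X h (r ≫ DSPtsLib.theta (Spec.map (CommRingCat.ofHom φ) ≫ hV.fromSpec) (𝟙 _)) := by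
  obtain ⟨S', f, hf, ⟨y, hy⟩, M, _, -, ⟨eM⟩⟩ := MultTypeQI.etale_locally_diag hT (hV.fromSpec ⟨p, inferInstance⟩)
  haveI : Etale f := hf
  obtain ⟨φ, hφ, hflat, hne, π₀, hπ₀, hmax, hunit⟩ := exists_stalk_data f hV p hp hd y hy
  refine ⟨S'.presheaf.stalk y, inferInstance, φ, hflat, hne, ?_⟩
  let R' := S'.presheaf.stalk y
  let g : Spec (CommRingCat.of R') ⟶ S := Spec.map (CommRingCat.ofHom φ) ≫ hV.fromSpec
  obtain ⟨e⟩ : Nonempty (Grp.mk (Red.bc g T) ≅ Grp.mk (Red.DS (Spec (CommRingCat.of R')) M)) := by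
    obtain ⟨e₁⟩ := HomRepLib.diag_bc (S'.fromSpecStalk y) eM
    obtain ⟨e₂⟩ := GrpSchLib.MultTypeBC.bc_congr hφ T
    exact ⟨e₂ ≪≫ e₁⟩
  let π : R' := φ π₀
  have hπ : π ∈ nonZeroDivisors R' := by
    algebraize [φ]
    refine mem_nonZeroDivisors_iff_right.mpr fun z hz => ?_
    have := Module.Flat.lTensor_preserves_injective_linearMap (M := R') (LinearMap.lsmul Γ(S, V) Γ(S, V) π₀)
      (fun x y hxy => mul_left_cancel₀ hπ₀ hxy)
    have e : ∀ z : R', TensorProduct.rid Γ(S, V) R' ((LinearMap.lsmul Γ(S, V) Γ(S, V) π₀).lTensor R'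
        ((TensorProduct.rid Γ(S, V) R').symm z)) = z * π := fun z => by
      simp [π, Algebra.smul_def, _root_.mul_comm, RingHom.algebraMap_toAlgebra]
    refine (TensorProduct.rid Γ(S, V) R').symm.injective (this ((TensorProduct.rid Γ(S, V) R').injective ?_))
    rw [e, hz, map_zero, map_zero, map_zero]
  have hm : ¬ IsUnit π := fun h => (IsLocalRing.maximalIdeal.isMaximal R').ne_top
    (hmax.trans (Ideal.span_singleton_eq_top.mpr h))
  let H' := Red.bc g H
  let q : H'.left ⟶ Spec (CommRingCat.of R') := H'.hom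
  haveI : Flat q := inferInstanceAs (Flat (pullback.snd H.hom g))
  -- the closed fibre
  let resk := Spec.map (CommRingCat.ofHom (IsLocalRing.residue R'))
  let σk := resk ≫ g
  let k := IsLocalRing.ResidueField R'
  haveI : IsIntegral (pullback q resk) := by
    let t := σk (IsLocalRing.closedPoint k)
    let qt : Spec (CommRingCat.of k) ⟶ Spec (S.residueField t) :=
      Spec.map (Scheme.descResidueField (Scheme.stalkClosedPointTo σk))
    have hqt : qt ≫ S.fromSpecResidueField t = σk := S.descResidueField_stalkClosedPointTo_fromSpecResidueField _ σk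
    haveI : GeometricallyIrreducible (pullback.snd H.hom (S.fromSpecResidueField t)) :=
      (GrpSchLib.FibreIrr.geometricallyIrreducible_fib H t (hconn t)).1
    let e1 : pullback (pullback.snd H.hom (S.fromSpecResidueField t)) qt ≅ pullback H.hom σk :=
      pullbackLeftPullbackSndIso _ _ _ ≪≫ pullback.congrHom rfl hqt
    let e2 : pullback q resk ≅ pullback H.hom σk := pullbackLeftPullbackSndIso H.hom g resk
    let e3 := e2 ≪≫ e1.symm
    haveI : GeometricallyIrreducible (pullback.snd (pullback.snd H.hom (S.fromSpecResidueField t)) qt) :=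
      inferInstance
    have hne : Nonempty ↑(pullback q resk) := by
      let u0 : Spec (CommRingCat.of k) ⟶ pullback q resk :=
        pullback.lift (resk ≫ (η[H'] : 𝟙_ _ ⟶ H').left) (𝟙 _) (by
          rw [Category.assoc, Category.id_comp, show (η[H'] : 𝟙_ _ ⟶ H').left ≫ q = _ from Over.w η[H']]
          exact Category.comp_id _)
      exact ⟨u0 (IsLocalRing.closedPoint k)⟩
    haveI : Nonempty ↑(pullback (pullback.snd H.hom (S.fromSpecResidueField t)) qt) := hne.map fun z => e3.hom z
    haveI : IrreducibleSpace ↑(pullback (pullback.snd H.hom (S.fromSpecResidueField t)) qt) :=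
      GeometricallyIrreducible.irreducibleSpace_of_subsingleton (pullback.snd _ qt)
    haveI : IrreducibleSpace ↑(pullback q resk) := by
      rw [irreducibleSpace_def, Set.top_eq_univ, ← (e3.inv.homeomorph.surjective.range_eq)]
      rw [← Set.image_univ]
      exact (IrreducibleSpace.isIrreducible_univ _).image _ e3.inv.continuous.continuousOn
    haveI : Smooth q := inferInstanceAs (Smooth (pullback.snd H.hom g))
    haveI : IsReduced (pullback q resk) := GrpSchLib.isReduced_of_smooth_field (pullback.snd q resk)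
    exact isIntegral_of_irreducibleSpace_of_isReduced _
  -- the unit section
  let σ : Spec (CommRingCat.of R') ⟶ H'.left := (η[H'] : 𝟙_ _ ⟶ H').left
  have hσ : σ ≫ q = 𝟙 _ := Over.w η[H']
  -- the map where π is invertible
  let D := locus π q
  let Xd : Over (Spec (CommRingCat.of R')) := Over.mk (D.ι ≫ q)
  let di : Xd ⟶ H' := Over.homMk D.ι rfl
  have hD : q ⁻¹ᵁ (Spec (CommRingCat.of R')).basicOpen ((Scheme.ΓSpecIso (CommRingCat.of R')).inv π) = D := by
    rw [Scheme.preimage_basicOpen]; rfl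
  have hgenR : ∀ {A : Type u} [CommRing A] (χ : R' →+* A), IsUnit (χ π) →
      Gen (Spec.map (CommRingCat.ofHom χ) ≫ g) := fun χ hu => by
    rw [show Spec.map (CommRingCat.ofHom χ) ≫ g = Spec.map (CommRingCat.ofHom (χ.comp φ)) ≫ hV.fromSpec by
      rw [CommRingCat.ofHom_comp, Spec.map_comp, Category.assoc]]
    exact gen_of_units hV _ fun r hr => hunit r hr χ hu
  -- generic points of the localisation
  let O := (Spec (CommRingCat.of R')).basicOpen ((Scheme.ΓSpecIso (CommRingCat.of R')).inv π)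
  let Rπ := Localization.Away π
  have hO : Set.range (Spec.map (CommRingCat.ofHom (algebraMap R' Rπ))) = (O : Set _) := by
    show Set.range (PrimeSpectrum.comap (algebraMap R' Rπ)) = _
    rw [PrimeSpectrum.localization_away_comap_range Rπ π]
    rw [show O = PrimeSpectrum.basicOpen π from basicOpen_eq_of_affine (R := CommRingCat.of R') π]
    rfl
  have hgenO : Gen (O.ι ≫ g) := by
    haveI : IsOpenImmersion (Spec.map (CommRingCat.ofHom (algebraMap R' Rπ))) :=
      IsOpenImmersion.of_isLocalization π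
    let l := IsOpenImmersion.lift (Spec.map (CommRingCat.ofHom (algebraMap R' Rπ))) O.ι
      (by rw [Scheme.Opens.range_ι, hO])
    exact (hgenR (algebraMap R' Rπ) (IsLocalization.Away.algebraMap_isUnit π)).comp l
      (by rw [IsOpenImmersion.lift_fac_assoc])
  have hgenD : Gen ((Over.map g).obj Xd).hom := by
    refine hgenO.comp (IsOpenImmersion.lift O.ι (D.ι ≫ q) ?_) (by rw [IsOpenImmersion.lift_fac_assoc]; rfl)
    rintro _ ⟨w, rfl⟩
    rw [Scheme.Opens.range_ι, Scheme.Hom.comp_apply]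
    exact (hD.ge w.2 : D.ι w ∈ q ⁻¹ᵁ O)
  obtain ⟨z₀, hz₀⟩ := (DSPtsLib.theta_bijective (g := g) (Y := Xd) (H := T)).2
    (Φ _ hgenD (DSPtsLib.theta g di))
  let z : Xd ⟶ Red.DS (Spec (CommRingCat.of R')) M := z₀ ≫ e.hom.hom.hom
  -- the section over the generic locus
  let Yo : Over (Spec (CommRingCat.of R')) := Over.mk O.ι
  have hσD : σ ⁻¹ᵁ D = O := by
    rw [← hD, ← Scheme.Hom.comp_preimage, hσ]
    rfl
  let so : Yo ⟶ Xd := Over.homMk (σ.resLE D O hσD.ge) (by
    show σ.resLE D O hσD.ge ≫ D.ι ≫ q = O.ι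
    rw [Scheme.Hom.resLE_comp_ι_assoc, hσ, Category.comp_id])
  have hso : so ≫ di = toUnit Yo ≫ η[H'] := Over.OverMorphism.ext (by
    show σ.resLE D O hσD.ge ≫ D.ι = O.ι ≫ σ
    rw [Scheme.Hom.resLE_comp_ι])
  have hz1 : so ≫ z = 1 := by
    have h1 : so ≫ z₀ = 1 := by
      refine (DSPtsLib.theta_bijective (g := g)).1 ?_
      rw [DSPtsLib.theta_comp, hz₀, hnat _ _ hgenD (hgenD.comp ((Over.map g).map so).left (Over.w _)),
        ← DSPtsLib.theta_comp, hso, ← Hom.one_def, GrpSchLib.HomUnitLocus.theta_one,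
        GrpSchLib.HomUnitLocus.theta_one]
      have h := hmul _ (hgenD.comp ((Over.map g).map so).left (Over.w _)) (1 : (Over.map g).obj Yo ⟶ H) 1
      rwa [_root_.one_mul, left_eq_mul] at h
    show so ≫ z₀ ≫ e.hom.hom.hom = 1
    let eh : Red.bc g T ⟶ Red.DS (Spec (CommRingCat.of R')) M := e.hom.hom.hom
    haveI : IsMonHom eh := e.hom.hom.isMonHom_hom
    rw [← Category.assoc, h1]
    exact MonObj.one_comp eh
  let fm : M → Γ(H'.left, D) := fun m => D.topIso.hom (HomRepLib.ev z m)
  have hfm : ∀ m m', fm (m + m') = fm m * fm m' := fun m m' => by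
    simp only [fm, HomRepLib.ev_add, map_mul]
  have hfm0 : fm 0 = 1 := by simp only [fm, HomRepLib.ev_zero, map_one]
  have hfu : ∀ m, IsUnit (fm m) := fun m => ⟨⟨fm m, fm (-m), by rw [← hfm, add_neg_cancel, hfm0],
    by rw [← hfm, neg_add_cancel, hfm0]⟩, rfl⟩
  have hone : ∀ m, σ.app D (fm m) = 1 := by
    intro m
    have h1 : (σ.resLE D O hσD.ge).appTop (HomRepLib.ev z m) = 1 := by
      have h := HomRepLib.ev_comp so z m
      rw [hz1, HomRepLib.ev_one] at h
      exact h.symm
    have h2 : (σ.appLE D O hσD.ge) (fm m) = 1 := by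
      have h3 := congrArg O.topIso.hom h1
      rw [map_one] at h3
      refine Eq.trans ?_ h3
      show (σ.appLE D O hσD.ge) (D.topIso.hom (HomRepLib.ev z m)) = O.topIso.hom ((σ.resLE D O hσD.ge).app ⊤ _)
      rw [Scheme.Hom.resLE_app_top]
      exact (Iso.inv_hom_id_apply O.topIso _).symm
    rw [Scheme.Hom.appLE, ConcreteCategory.comp_apply] at h2
    haveI : IsIso (homOfLE hσD.ge) := ⟨homOfLE hσD.le, rfl, rfl⟩
    exact (ConcreteCategory.bijective_of_isIso ((Spec (CommRingCat.of R')).presheaf.map (homOfLE hσD.ge).op)).1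
      (h2.trans (map_one _).symm)
  have hreg := flat_reg q hπ
  have hext := fun m => exists_extend hreg (fun W hW hx => fibre_prime hmax q W hW hx)
    (fun W W' h h' => fibre_irr hmax q W W' h h') (fm m) (hfu m) hπ hm
    (fun x hx => by rw [mem_locus_iff hmax, not_not]; exact hx) σ hσ (hone m)
  choose gm hgm using hext
  have huniq : ∀ s t : Γ(H'.left, ⊤), res (le_top : D ≤ ⊤) s = res (le_top : D ≤ ⊤) t → s = t := fun s t h => by
    refine ext_of_locus hreg s t ?_
    have h' := congrArg (NormalExtend.res (inf_le_right : (⊤ : H'.left.Opens) ⊓ locus π q ≤ D)) h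
    exact (res_res _ _ _).symm.trans (h'.trans (res_res _ _ _))
  let χ : Multiplicative M →* Γ(H'.left, ⊤) :=
    { toFun := fun m => gm m.toAdd
      map_one' := huniq (gm 0) 1 (by rw [hgm 0, map_one]; exact hfm0)
      map_mul' := fun a b => huniq (gm (a.toAdd + b.toAdd)) (gm a.toAdd * gm b.toAdd)
        (by rw [hgm, map_mul, hgm, hgm]; exact hfm _ _) }
  obtain ⟨v₀, hv₀⟩ := HomRepLib.exists_ev (S := Spec (CommRingCat.of R')) (X := H') χ
  have hdv : di ≫ v₀ = z := HomRepLib.ev_ext fun m => by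
    rw [HomRepLib.ev_comp, hv₀]
    apply D.topIso.commRingCatIsoToRingEquiv.injective
    show D.topIso.hom (D.ι.appTop (gm m)) = D.topIso.hom (HomRepLib.ev z m)
    refine Eq.trans ?_ (hgm m)
    rw [Scheme.Opens.ι_appTop, Scheme.Opens.topIso_hom, ← ConcreteCategory.comp_apply]
    erw [← Functor.map_comp]
    rfl
  refine ⟨DSPtsLib.theta g (v₀ ≫ e.inv.hom.hom), fun X h r => ?_⟩
  -- points over the generic point lie in the locus
  have hrD : Set.range r.left ⊆ Set.range ((Over.map g).map di).left := by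
    rintro _ ⟨x, rfl⟩
    show r.left x ∈ Set.range D.ι
    rw [Scheme.Opens.range_ι, ← hD]
    show q (r.left x) ∈ O
    rw [← SetLike.mem_coe, ← hO]
    obtain ⟨qq, hqq⟩ := h
    have hgx : g (q (r.left x)) = genericPoint S := by
      rw [← Scheme.Hom.comp_apply, ← Scheme.Hom.comp_apply,
        show r.left ≫ q ≫ g = X.hom from Over.w r, ← hqq, Scheme.Hom.comp_apply]
      exact Scheme.fromSpecResidueField_apply _ _
    haveI : Nonempty (Spec (CommRingCat.of Γ(S, V))) := inferInstanceAs (Nonempty (PrimeSpectrum Γ(S, V)))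
    haveI : IsIntegral (Spec (CommRingCat.of Γ(S, V))) := inferInstance
    rw [show g (q (r.left x)) = hV.fromSpec (Spec.map (CommRingCat.ofHom φ) (q (r.left x))) from
      Scheme.Hom.comp_apply _ _ _, ← genericPoint_eq_of_isOpenImmersion hV.fromSpec] at hgx
    have h2 := (hV.fromSpec.isOpenEmbedding.injective hgx).trans (genericPoint_eq_bot_of_affine _)
    have hmem : q (r.left x) ∈ (Set.range (PrimeSpectrum.comap (algebraMap R' Rπ))) := by
      rw [PrimeSpectrum.localization_away_comap_range Rπ π]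
      intro hin
      have h3 : π₀ ∈ (Spec.map (CommRingCat.ofHom φ) (q (r.left x))).asIdeal := hin
      rw [h2] at h3
      exact hπ₀ h3
    exact hmem
  haveI : IsOpenImmersion ((Over.map g).map di).left := inferInstanceAs (IsOpenImmersion D.ι)
  let r' : X ⟶ (Over.map g).obj Xd := Over.homMk (IsOpenImmersion.lift ((Over.map g).map di).left r.left hrD) (by
    rw [← Over.w ((Over.map g).map di), IsOpenImmersion.lift_fac_assoc]
    exact Over.w r)
  have hr' : r' ≫ (Over.map g).map di = r := Over.OverMorphism.ext (IsOpenImmersion.lift_fac _ _ _)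
  rw [← hr', Category.assoc, Category.assoc, ← DSPtsLib.theta_comp, ← DSPtsLib.theta_comp, ← Category.assoc di v₀,
    hdv, Category.comp_id, ← hnat _ _ hgenD h r' (DSPtsLib.theta g di), ← hz₀]
  congr 2
  show (z₀ ≫ e.hom.hom.hom) ≫ e.inv.hom.hom = z₀
  rw [Category.assoc, show e.hom.hom.hom ≫ e.inv.hom.hom = 𝟙 _ from congrArg (fun k => k.hom.hom) e.hom_inv_id,
    Category.comp_id]

end Groth.Agent.NormalExtend
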