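import Groth.Agent.DSPtsLib.Basic
import Groth.Prelude.Def_SGA3x
import Mathlib.AlgebraicGeometry.ResidueField
import Mathlib.AlgebraicGeometry.FunctionField
import Mathlib.AlgebraicGeometry.Morphisms.Flat
import Mathlib.AlgebraicGeometry.Morphisms.Affine

/-!
# Schemes over the generic point of an integral scheme
-/

set_option linter.style.haveILetI false

universe u

open CategoryTheory CategoryTheory.Limits MonoidalCategory CartesianMonoidalCategory MonObj GrpObj AlgebraicGeometry

namespace Groth.Agent.NormalExtend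

set_option backward.isDefEq.respectTransparency.types false

variable {S : Scheme.{u}} [IsIntegral S]

/-- The inclusion of the generic point. -/
noncomputable abbrev ιη (S : Scheme.{u}) [IsIntegral S] : Spec (S.residueField (genericPoint S)) ⟶ S :=
  S.fromSpecResidueField (genericPoint S)

/-- Factoring through the generic point. -/
def Gen {X : Scheme.{u}} (g : X ⟶ S) : Prop := ∃ q, q ≫ ιη S = g

theorem Gen.comp {X X' : Scheme.{u}} {g : X ⟶ S} (h : Gen g) (r : X' ⟶ X) {g' : X' ⟶ S} (e : r ≫ g = g') :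
    Gen g' := by
  obtain ⟨q, hq⟩ := h
  exact ⟨r ≫ q, by rw [Category.assoc, hq, e]⟩

variable {V : S.Opens} (hV : IsAffineOpen V) [Nonempty (V : Scheme.{u})]

/-- A ring under that of an affine open in which the non-zero elements are units lies over the generic point. -/
theorem gen_of_units [IsDomain Γ(S, V)] {A : Type u} [CommRing A] (φ : Γ(S, V) →+* A)
    (h : ∀ r, r ≠ 0 → IsUnit (φ r)) :
    Gen (Spec.map (CommRingCat.ofHom φ) ≫ hV.fromSpec) := by
  let R := Γ(S, V)
  let K := FractionRing R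
  let σ : Spec (CommRingCat.of K) ⟶ S := Spec.map (CommRingCat.ofHom (algebraMap R K)) ≫ hV.fromSpec
  let ψ : K →+* A := IsLocalization.lift (M := nonZeroDivisors R) (g := φ) fun r => h r (nonZeroDivisors.ne_zero r.2)
  haveI : Nonempty (Spec (CommRingCat.of R)) := inferInstanceAs (Nonempty (PrimeSpectrum R))
  have hpt : σ (IsLocalRing.closedPoint K) = genericPoint S := by
    rw [Scheme.Hom.comp_apply, ← genericPoint_eq_of_isOpenImmersion hV.fromSpec]
    refine congrArg hV.fromSpec ?_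
    refine (PrimeSpectrum.ext ?_).trans ((genericPoint_eq_bot_of_affine (CommRingCat.of R)).symm)
    show Ideal.comap (algebraMap R K) (IsLocalRing.maximalIdeal K) = ⊥
    rw [IsLocalRing.maximalIdeal_eq_bot]
    exact (RingHom.injective_iff_ker_eq_bot _).mp (IsFractionRing.injective R K)
  have hσ : Gen σ := by
    refine ⟨Spec.map (Scheme.descResidueField (Scheme.stalkClosedPointTo σ)) ≫
      Spec.map (S.residueFieldCongr hpt.symm).hom, ?_⟩
    rw [Category.assoc, Scheme.residueFieldCongr_fromSpecResidueField]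
    exact S.descResidueField_stalkClosedPointTo_fromSpecResidueField _ σ
  refine hσ.comp (Spec.map (CommRingCat.ofHom ψ)) ?_
  rw [← Spec.map_comp_assoc, ← CommRingCat.ofHom_comp, IsLocalization.lift_comp]

omit [Nonempty (V : Scheme.{u})] in
/-- Over the generic point the non-zero functions of an affine open are units. -/
theorem isUnit_of_gen [IsDomain Γ(S, V)] {A : Type u} [CommRing A] (φ : Γ(S, V) →+* A)
    (h : Gen (Spec.map (CommRingCat.ofHom φ) ≫ hV.fromSpec)) {r : Γ(S, V)} (hr : r ≠ 0) : IsUnit (φ r) := by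
  by_contra hu
  obtain ⟨m, hm, hmem⟩ := exists_max_ideal_of_mem_nonunits hu
  obtain ⟨q, hq⟩ := h
  let z : PrimeSpectrum A := ⟨m, hm.isPrime⟩
  have h1 : hV.fromSpec (Spec.map (CommRingCat.ofHom φ) z) = genericPoint S := by
    rw [← Scheme.Hom.comp_apply, ← hq, Scheme.Hom.comp_apply]
    exact Scheme.fromSpecResidueField_apply _ _
  haveI : Nonempty (Spec (CommRingCat.of Γ(S, V))) := ⟨Spec.map (CommRingCat.ofHom φ) z⟩
  haveI : IsIntegral (Spec (CommRingCat.of Γ(S, V))) := inferInstance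
  rw [← genericPoint_eq_of_isOpenImmersion hV.fromSpec] at h1
  have h2 := (hV.fromSpec.isOpenEmbedding.injective h1).trans (genericPoint_eq_bot_of_affine _)
  have h3 : r ∈ (Spec.map (CommRingCat.ofHom φ) z).asIdeal := hmem
  rw [h2] at h3
  exact hr h3

variable {H T : Over S} [GrpObj H] [GrpObj T]

/-- A homomorphism of the generic fibres, as a natural map on points lying over the generic point. -/
theorem exists_phi (uη : Red.bc (ιη S) H ⟶ Red.bc (ιη S) T) [IsMonHom uη] :
    ∃ Φ : ∀ X : Over S, Gen X.hom → (X ⟶ H) → (X ⟶ T),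
      (∀ (X X' : Over S) (h : Gen X.hom) (h' : Gen X'.hom) (r : X' ⟶ X) (x : X ⟶ H), r ≫ Φ X h x = Φ X' h' (r ≫ x)) ∧
      (∀ (X : Over S) (h : Gen X.hom) (x y : X ⟶ H), Φ X h (x * y) = Φ X h x * Φ X h y) ∧
      ∀ (Y : Over (Spec (S.residueField (genericPoint S)))) (a : Y ⟶ Red.bc (ιη S) H)
        (h : Gen ((Over.map (ιη S)).obj Y).hom),
        Φ _ h (DSPtsLib.theta (ιη S) a) = DSPtsLib.theta (ιη S) (a ≫ uη) := by
  let Yo : ∀ X : Over S, Gen X.hom → Over (Spec (S.residueField (genericPoint S))) := fun X h => Over.mk h.choose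
  let e : ∀ (X : Over S) (h : Gen X.hom), X ≅ (Over.map (ιη S)).obj (Yo X h) := fun X h =>
    Over.isoMk (Iso.refl _) (by
      show 𝟙 _ ≫ h.choose ≫ ιη S = X.hom
      rw [Category.id_comp]; exact h.choose_spec)
  let inv' : ∀ (X : Over S) (h : Gen X.hom), (X ⟶ H) → (Yo X h ⟶ Red.bc (ιη S) H) := fun X h x =>
    ((DSPtsLib.theta_bijective (g := ιη S) (Y := Yo X h) (H := H)).2 ((e X h).inv ≫ x)).choose
  have hinv : ∀ X h x, DSPtsLib.theta (ιη S) (inv' X h x) = (e X h).inv ≫ x := fun X h x =>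
    ((DSPtsLib.theta_bijective (g := ιη S) (Y := Yo X h) (H := H)).2 ((e X h).inv ≫ x)).choose_spec
  let Φ : ∀ X : Over S, Gen X.hom → (X ⟶ H) → (X ⟶ T) := fun X h x =>
    (e X h).hom ≫ DSPtsLib.theta (ιη S) (inv' X h x ≫ uη)
  -- independence of the chosen factorisation
  have hΦ : ∀ (X : Over S) (h : Gen X.hom) (Y : Over (Spec (S.residueField (genericPoint S))))
      (j : X ⟶ (Over.map (ιη S)).obj Y) (a : Y ⟶ Red.bc (ιη S) H) (x : X ⟶ H),
      x = j ≫ DSPtsLib.theta (ιη S) a → Φ X h x = j ≫ DSPtsLib.theta (ιη S) (a ≫ uη) := by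
    intro X h Y j a x hx
    let j' : Yo X h ⟶ Y := Over.homMk ((e X h).inv ≫ j).left (by
      rw [← cancel_mono (ιη S)]
      simp only [Category.assoc]
      exact Over.w ((e X h).inv ≫ j))
    have hj : (Over.map (ιη S)).map j' = (e X h).inv ≫ j := Over.OverMorphism.ext rfl
    have ha : inv' X h x = j' ≫ a := (DSPtsLib.theta_bijective (g := ιη S)).1 (by
      rw [hinv, DSPtsLib.theta_comp, hj, hx, Category.assoc])
    show (e X h).hom ≫ _ = _
    rw [ha, Category.assoc, DSPtsLib.theta_comp, hj, Category.assoc, Iso.hom_inv_id_assoc]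
  refine ⟨Φ, fun X X' h h' r x => ?_, fun X h x y => ?_, fun Y a h => ?_⟩
  · rw [hΦ X' h' (Yo X h) (r ≫ (e X h).hom) (inv' X h x) (r ≫ x) (by
      rw [hinv, Category.assoc, Iso.hom_inv_id_assoc]), Category.assoc]
  · rw [hΦ X h (Yo X h) (e X h).hom (inv' X h x * inv' X h y) (x * y) (by
      rw [DSPtsLib.theta_mul, hinv, hinv, ← MonObj.comp_mul, Iso.hom_inv_id_assoc]), MonObj.mul_comp,
      DSPtsLib.theta_mul, MonObj.comp_mul]
  · rw [hΦ _ h Y (𝟙 _) a _ (Category.id_comp _).symm, Category.id_comp]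

omit [GrpObj H] [GrpObj T] in
/-- Maps out of a flat scheme into an affine one which agree over the generic point agree. -/
theorem ext_of_gen [IsAffineHom T.hom] {X : Over S} [Flat X.hom] (a b : X ⟶ T)
    (h : ∀ (X' : Over S) (r : X' ⟶ X), Gen X'.hom → r ≫ a = r ≫ b) : a = b := by
  refine Over.OverMorphism.ext (Scheme.hom_ext_of_forall _ _ fun p => ?_)
  obtain ⟨V, hV, hpV, -⟩ := exists_isAffineOpen_mem_and_subset (show X.hom p ∈ (⊤ : S.Opens) from trivial)
  obtain ⟨W, hW, hpW, hWV⟩ := exists_isAffineOpen_mem_and_subset (show p ∈ X.hom ⁻¹ᵁ V from hpV)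
  haveI : Nonempty (V : Scheme.{u}) := ⟨⟨_, hpV⟩⟩
  refine ⟨W, hpW, ?_⟩
  let R := Γ(S, V)
  let B := Γ(X.left, W)
  let φ : R →+* B := (X.hom.appLE V W hWV).hom
  letI := φ.toAlgebra
  haveI : Module.Flat R B := by
    have := HasRingHomProperty.appLE @Flat X.hom ‹_› ⟨V, hV⟩ ⟨W, hW⟩ hWV
    exact this
  let BK := Localization (Algebra.algebraMapSubmonoid B (nonZeroDivisors R))
  let ρ : B →+* BK := algebraMap B BK
  have hinj : Function.Injective ρ := IsLocalization.injective (R := B) BK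
    (M := Algebra.algebraMapSubmonoid B (nonZeroDivisors R)) (by
      rintro _ ⟨r, hr, rfl⟩
      refine mem_nonZeroDivisors_iff_right.mpr fun z hz => ?_
      have := Module.Flat.lTensor_preserves_injective_linearMap (M := B) (LinearMap.lsmul R R r)
        (fun x y hxy => (mem_nonZeroDivisors_iff_left.mp hr (x - y) (by
          simpa [mul_sub, sub_eq_zero] using hxy)) |> sub_eq_zero.mp)
      have e : ∀ z : B, TensorProduct.rid R B ((LinearMap.lsmul R R r).lTensor B ((TensorProduct.rid R B).symm z)) =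
          z * algebraMap R B r := fun z => by
        simp [Algebra.smul_def, _root_.mul_comm]
      refine (TensorProduct.rid R B).symm.injective (this ((TensorProduct.rid R B).injective ?_))
      rw [e, hz, map_zero, map_zero, map_zero])
  let X' : Over S := Over.mk (Spec.map (CommRingCat.ofHom (ρ.comp φ)) ≫ hV.fromSpec)
  have hX' : Gen X'.hom := gen_of_units hV _ fun r hr =>
    IsLocalization.map_units (M := Algebra.algebraMapSubmonoid B (nonZeroDivisors R)) BK
      ⟨φ r, Submonoid.mem_map.mpr ⟨r, mem_nonZeroDivisors_of_ne_zero hr, rfl⟩⟩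
  let r : X' ⟶ X := Over.homMk (Spec.map (CommRingCat.ofHom ρ) ≫ hW.fromSpec) (by
    show (_ ≫ _) ≫ X.hom = Spec.map _ ≫ hV.fromSpec
    rw [Category.assoc, ← hV.SpecMap_appLE_fromSpec X.hom hW hWV, ← Spec.map_comp_assoc]
    rfl)
  have h1 : Spec.map (CommRingCat.ofHom ρ) ≫ hW.fromSpec ≫ a.left =
      Spec.map (CommRingCat.ofHom ρ) ≫ hW.fromSpec ≫ b.left := by
    simpa [r] using congrArg (fun k => k.left) (h X' r hX')
  have hTV : IsAffineOpen (T.hom ⁻¹ᵁ V) := hV.preimage T.hom
  have hr : ∀ c : X ⟶ T, ∃ ψ, Spec.map ψ ≫ hTV.fromSpec = hW.fromSpec ≫ c.left := fun c => by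
    have : Set.range (hW.fromSpec ≫ c.left) ⊆ Set.range hTV.fromSpec := by
      rintro _ ⟨q, rfl⟩
      rw [hTV.range_fromSpec]
      show (hW.fromSpec ≫ c.left ≫ T.hom) q ∈ V
      rw [Over.w c]
      exact hWV (show hW.fromSpec q ∈ W by rw [← SetLike.mem_coe, ← hW.range_fromSpec]; exact ⟨q, rfl⟩)
    exact ⟨_, (congrArg (· ≫ hTV.fromSpec) (Spec.map_preimage _)).trans (IsOpenImmersion.lift_fac _ _ this)⟩
  obtain ⟨ψa, ha⟩ := hr a
  obtain ⟨ψb, hb⟩ := hr b
  rw [← ha, ← hb, ← Category.assoc, ← Category.assoc, cancel_mono, ← Spec.map_comp, ← Spec.map_comp] at h1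
  have h2 : ψa = ψb := CommRingCat.hom_ext (RingHom.ext fun c =>
    hinj (RingHom.congr_fun (congrArg CommRingCat.Hom.hom (Spec.map_injective h1)) c))
  have h3 : hW.fromSpec ≫ a.left = hW.fromSpec ≫ b.left := by rw [← ha, ← hb, h2]
  rw [← hW.isoSpec_hom_fromSpec, Category.assoc, Category.assoc, h3]

end Groth.Agent.NormalExtend
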