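import Groth.Agent.NormalExtend.Affine
import Groth.Agent.TransLib.MultEssFree

/-!
# Homomorphisms into groups of multiplicative type extend from the generic fibre over a normal base
-/

set_option linter.style.haveILetI false

universe u

open CategoryTheory CategoryTheory.Limits MonoidalCategory CartesianMonoidalCategory MonObj GrpObj AlgebraicGeometry
open TopologicalSpace

namespace Groth.Agent.NormalExtend

set_option backward.isDefEq.respectTransparency.types false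

variable {S : Scheme.{u}} [IsIntegral S] [IsLocallyNoetherian S] {H T : Over S} [GrpObj H] [GrpObj T]

/-- A natural map on points over the generic point comes from a unique morphism. -/
theorem exists_morphism [Smooth H.hom] [IsAffineHom T.hom] (hnorm : Pi1.IsNormalScheme S)
    (hconn : ∀ s : S, _root_.IsConnected (H.hom ⁻¹' {s})) (hT : SGA3x.IsMultTypeFT T)
    (Φ : ∀ X : Over S, Gen X.hom → (X ⟶ H) → (X ⟶ T))
    (hnat : ∀ (X X' : Over S) (h : Gen X.hom) (h' : Gen X'.hom) (r : X' ⟶ X) (x : X ⟶ H),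
      r ≫ Φ X h x = Φ X' h' (r ≫ x))
    (hmul : ∀ (X : Over S) (h : Gen X.hom) (x y : X ⟶ H), Φ X h (x * y) = Φ X h x * Φ X h y) :
    ∃ u : H ⟶ T, ∀ (X : Over S) (h : Gen X.hom) (x : X ⟶ H), x ≫ u = Φ X h x := by
  have hloc : ∀ p : H.left, ∃ W : H.left.Opens, p ∈ W ∧ ∃ w : Over.mk (W.ι ≫ H.hom) ⟶ T,
      ∀ (X : Over S) (h : Gen X.hom) (r : X ⟶ Over.mk (W.ι ≫ H.hom)),
        r ≫ w = Φ X h (r ≫ Over.homMk W.ι rfl) := fun p => by
    obtain ⟨V, hV, hpV, -⟩ := exists_isAffineOpen_mem_and_subset (show H.hom p ∈ (⊤ : S.Opens) from trivial)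
    obtain ⟨W, hW, hpW, hWV⟩ := exists_isAffineOpen_mem_and_subset (show p ∈ H.hom ⁻¹ᵁ V from hpV)
    haveI : Nonempty (V : Scheme.{u}) := ⟨⟨_, hpV⟩⟩
    exact ⟨W, hpW, exists_affine hnorm hconn hT Φ hnat hmul hV hW hWV⟩
  choose W hpW w hw using hloc
  have hcov : IsOpenCover W := top_le_iff.mp fun p _ => Opens.mem_iSup.mpr ⟨p, hpW p⟩
  let 𝒰 := H.left.openCoverOfIsOpenCover W hcov
  have hcompat : ∀ i j, pullback.fst (𝒰.f i) (𝒰.f j) ≫ (w i).left = pullback.snd _ _ ≫ (w j).left := fun i j => by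
    let P : Over S := Over.mk (pullback.fst (W i).ι (W j).ι ≫ (W i).ι ≫ H.hom)
    let p₁ : P ⟶ Over.mk ((W i).ι ≫ H.hom) := Over.homMk (pullback.fst _ _) rfl
    let p₂ : P ⟶ Over.mk ((W j).ι ≫ H.hom) := Over.homMk (pullback.snd _ _) (pullback.condition_assoc _).symm
    have hp : p₁ ≫ Over.homMk (W i).ι rfl = p₂ ≫ (Over.homMk (W j).ι rfl : Over.mk ((W j).ι ≫ H.hom) ⟶ H) :=
      Over.OverMorphism.ext pullback.condition
    haveI : Flat P.hom := inferInstanceAs (Flat (pullback.fst (W i).ι (W j).ι ≫ (W i).ι ≫ H.hom))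
    exact congrArg (fun k => k.left) (ext_of_gen (p₁ ≫ w i) (p₂ ≫ w j) fun X r h => by
      rw [← Category.assoc, ← Category.assoc, hw i X h, hw j X h, Category.assoc, Category.assoc, hp])
  let u₀ := Scheme.Cover.glueMorphisms 𝒰 (fun i => (w i).left) hcompat
  have hu₀ : ∀ i, (W i).ι ≫ u₀ = (w i).left := fun i => Scheme.Cover.ι_glueMorphisms 𝒰 _ hcompat i
  let u : H ⟶ T := Over.homMk u₀ (Scheme.Cover.hom_ext 𝒰 _ _ fun i => by
    show (W i).ι ≫ u₀ ≫ T.hom = (W i).ι ≫ H.hom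
    rw [reassoc_of% (hu₀ i)]
    exact Over.w (w i))
  refine ⟨u, fun X h x => Over.OverMorphism.ext (Scheme.hom_ext_of_forall _ _ fun p => ?_)⟩
  let i := x.left p
  let U := x.left ⁻¹ᵁ W i
  refine ⟨U, hpW i, ?_⟩
  let X' : Over S := Over.mk (U.ι ≫ X.hom)
  let iU : X' ⟶ X := Over.homMk U.ι rfl
  let r : X' ⟶ Over.mk ((W i).ι ≫ H.hom) := Over.homMk (x.left.resLE (W i) U le_rfl) (by
    show x.left.resLE (W i) U le_rfl ≫ (W i).ι ≫ H.hom = U.ι ≫ X.hom
    rw [Scheme.Hom.resLE_comp_ι_assoc]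
    exact congrArg (U.ι ≫ ·) (Over.w x))
  have hr : r ≫ Over.homMk (W i).ι rfl = iU ≫ x := Over.OverMorphism.ext (Scheme.Hom.resLE_comp_ι _ _)
  have hX' : Gen X'.hom := h.comp U.ι rfl
  have h1 : r ≫ w i = iU ≫ Φ X h x := by rw [hw i X' hX', hr, hnat X X' h hX']
  refine Eq.trans ?_ (congrArg (fun k => k.left) h1)
  show U.ι ≫ x.left ≫ u₀ = x.left.resLE (W i) U le_rfl ≫ (w i).left
  rw [← hu₀ i, Scheme.Hom.resLE_comp_ι_assoc]

/-- A homomorphism of the generic fibres from a smooth group with connected fibres into a group of multiplicative type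
extends to the whole of a normal base. -/
theorem exists_hom [Smooth H.hom] (hnorm : Pi1.IsNormalScheme S)
    (hconn : ∀ s : S, _root_.IsConnected (H.hom ⁻¹' {s})) (hT : SGA3x.IsMultTypeFT T)
    (uη : Red.bc (ιη S) H ⟶ Red.bc (ιη S) T) [IsMonHom uη] :
    ∃ u : H ⟶ T, IsMonHom u ∧ (Over.pullback (ιη S)).map u = uη := by
  haveI : IsAffineHom T.hom := (TransLib.multTypeFT_essFree hT).1
  obtain ⟨Φ, hnat, hmul, hΦ⟩ := exists_phi uη
  obtain ⟨u, hu⟩ := exists_morphism hnorm hconn hT Φ hnat hmul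
  have hone : ∀ (X : Over S) (h : Gen X.hom), Φ X h 1 = 1 := fun X h => by
    have := hmul X h 1 1
    rwa [_root_.one_mul, left_eq_mul] at this
  refine ⟨u, { one_hom := ?_, mul_hom := ?_ }, ?_⟩
  · haveI : Flat (𝟙_ (Over S)).hom := inferInstanceAs (Flat (𝟙 S))
    refine ext_of_gen _ _ fun X r h => ?_
    rw [← Category.assoc, hu X h, Subsingleton.elim r (toUnit X), ← Hom.one_def, hone, Hom.one_def]
  · haveI : Flat (H ⊗ H).hom := inferInstanceAs (Flat (pullback.fst H.hom H.hom ≫ H.hom))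
    refine ext_of_gen _ _ fun X r h => ?_
    have e : r ≫ μ[H] = (r ≫ fst H H) * (r ≫ snd H H) := by
      rw [← MonObj.comp_mul, Hom.mul_def, lift_fst_snd, Category.id_comp]
    rw [← Category.assoc, hu X h, e, hmul, ← hu X h, ← hu X h, Category.assoc, Category.assoc,
      ← tensorHom_fst u u, ← tensorHom_snd u u, ← Category.assoc, ← Category.assoc r (u ⊗ₘ u), Hom.mul_def,
      ← comp_lift_assoc, lift_fst_snd, Category.id_comp, Category.assoc]
  · have hg : Gen ((Over.map (ιη S)).obj (Red.bc (ιη S) H)).hom := ⟨(Red.bc (ιη S) H).hom, rfl⟩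
    refine (DSPtsLib.theta_bijective (g := ιη S)).1 ?_
    have h1 := hΦ _ (𝟙 _) hg
    rw [← hu _ hg, Category.id_comp] at h1
    rw [← h1, ← Category.id_comp ((Over.pullback (ιη S)).map u)]
    exact (Over.mapPullbackAdj (ιη S)).homEquiv_naturality_right_symm (𝟙 _) u

end Groth.Agent.NormalExtend
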