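import Mathlib.AlgebraicGeometry.Morphisms.Flat
import Mathlib.AlgebraicGeometry.AffineScheme
import Mathlib.RingTheory.Localization.Away.Basic

/-!
# Extension of units across an irreducible reduced fibre

Let `π` be a regular element of a ring, `X` a scheme over it with a section, on which `π` is regular, and whose locus `π = 0`
is irreducible and reduced. A unit on the locus where `π` is invertible which is `1` along the section extends.
-/

set_option linter.style.haveILetI false

universe u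

open CategoryTheory AlgebraicGeometry TopologicalSpace Opposite

namespace Groth.Agent.NormalExtend

set_option backward.isDefEq.respectTransparency.types false

/-- A divisor of a power of a prime is a unit times a power. -/
theorem exists_pow_mul_unit {A : Type*} [CommRing A] {p : A} (hp : p ∈ nonZeroDivisors A)
    (hP : (Ideal.span {p}).IsPrime) {a b : A} {N : ℕ} (h : a * b = p ^ N) :
    ∃ (j : ℕ) (u : A), IsUnit u ∧ a = p ^ j * u := by
  induction N generalizing a b with
  | zero => exact ⟨0, a, ⟨⟨a, b, by simpa using h, by rw [_root_.mul_comm]; simpa using h⟩, rfl⟩, by simp⟩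
  | succ N ih =>
    have hmem : a * b ∈ Ideal.span {p} := Ideal.mem_span_singleton.mpr ⟨p ^ N, by rw [h, pow_succ']⟩
    rcases hP.mem_or_mem hmem with ha | hb
    · obtain ⟨a', rfl⟩ := Ideal.mem_span_singleton.mp ha
      rw [_root_.mul_assoc, pow_succ'] at h
      obtain ⟨j, u, hu, rfl⟩ := ih (sub_eq_zero.mp ((mem_nonZeroDivisors_iff_right.mp hp) (a' * b - p ^ N) (by
        rw [sub_mul, _root_.mul_comm (a' * b), _root_.mul_comm (p ^ N), h, sub_self])))
      exact ⟨j + 1, u, hu, by rw [pow_succ']; ring⟩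
    · obtain ⟨b', rfl⟩ := Ideal.mem_span_singleton.mp hb
      rw [← _root_.mul_assoc, _root_.mul_comm a p, _root_.mul_assoc, pow_succ'] at h
      exact ih (sub_eq_zero.mp ((mem_nonZeroDivisors_iff_right.mp hp) (a * b' - p ^ N) (by
        rw [sub_mul, _root_.mul_comm (a * b'), _root_.mul_comm (p ^ N), h, sub_self])))

/-- Cancellation of powers of a regular non-unit. -/
theorem eq_of_pow_mul_eq {A : Type*} [CommRing A] {p : A} (hp : p ∈ nonZeroDivisors A) (hp' : ¬ IsUnit p)
    {i j : ℕ} {u v : A} (hu : IsUnit u) (hv : IsUnit v) (h : p ^ i * u = p ^ j * v) : i = j := by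
  wlog hij : i ≤ j generalizing i j u v
  · exact (this hv hu h.symm (le_of_not_ge hij)).symm
  obtain ⟨d, rfl⟩ := Nat.exists_eq_add_of_le hij
  rcases d with _ | d
  · rfl
  refine absurd ?_ hp'
  have hc : p ^ (d + 1) * v = u := by
    refine sub_eq_zero.mp ((mem_nonZeroDivisors_iff_right.mp (pow_mem hp i)) _ ?_)
    rw [sub_mul, pow_add] at *
    linear_combination -h
  rw [pow_succ', _root_.mul_assoc] at hc
  exact isUnit_of_mul_isUnit_left (hc ▸ hu)

variable {R : Type u} [CommRing R] (π : R) {X : Scheme.{u}} (q : X ⟶ Spec (CommRingCat.of R))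

/-- The function `π` on `X`. -/
noncomputable def piX : Γ(X, ⊤) := q.appTop ((Scheme.ΓSpecIso (CommRingCat.of R)).inv π)

/-- The locus where `π` is invertible. -/
noncomputable abbrev locus : X.Opens := X.basicOpen (piX π q)

/-- The function `π` on an open. -/
noncomputable abbrev piOn (W : X.Opens) : Γ(X, W) := X.presheaf.map (homOfLE le_top).op (piX π q)

theorem res_res {U V W : X.Opens} (h₁ : V ≤ U) (h₂ : W ≤ V) (x : Γ(X, U)) :
    X.presheaf.map (homOfLE h₂).op (X.presheaf.map (homOfLE h₁).op x) =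
      X.presheaf.map (homOfLE (h₂.trans h₁)).op x := by
  rw [← ConcreteCategory.comp_apply, ← X.presheaf.map_comp]
  rfl

/-- Restriction of sections. -/
noncomputable abbrev res {U V : X.Opens} (h : V ≤ U) : Γ(X, U) →+* Γ(X, V) := (X.presheaf.map (homOfLE h).op).hom

theorem res_piOn {U V : X.Opens} (h : V ≤ U) : res h (piOn π q U) = piOn π q V := res_res _ _ _

theorem isLocalization {W : X.Opens} (hW : IsAffineOpen W) :
    @IsLocalization.Away _ _ (piOn π q W) Γ(X, W ⊓ locus π q) _
      (res (inf_le_left : W ⊓ locus π q ≤ W)).toAlgebra := by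
  letI := (res (inf_le_left : W ⊓ locus π q ≤ W)).toAlgebra
  exact hW.isLocalization_of_eq_basicOpen (piOn π q W) (homOfLE inf_le_left) (Scheme.basicOpen_res _ _ _).symm

variable {π q}

variable (hreg : ∀ W : X.Opens, IsAffineOpen W → piOn π q W ∈ nonZeroDivisors Γ(X, W))
include hreg

theorem res_injective {W : X.Opens} (hW : IsAffineOpen W) :
    Function.Injective (res (inf_le_left : W ⊓ locus π q ≤ W)) := by
  letI := (res (inf_le_left : W ⊓ locus π q ≤ W)).toAlgebra
  haveI := isLocalization π q hW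
  exact IsLocalization.injective (R := Γ(X, W)) Γ(X, W ⊓ locus π q) (M := Submonoid.powers (piOn π q W))
    (Submonoid.powers_le.mpr (hreg W hW))

/-- Sections agreeing where `π` is invertible agree. -/
theorem ext_of_locus {U : X.Opens} (s t : Γ(X, U))
    (h : res (inf_le_left : U ⊓ locus π q ≤ U) s = res (inf_le_left : U ⊓ locus π q ≤ U) t) : s = t := by
  refine TopCat.Sheaf.eq_of_locally_eq' X.sheaf (fun W : {W : X.Opens // IsAffineOpen W ∧ W ≤ U} => W.1) U
    (fun W => homOfLE W.2.2) (fun x hx => ?_) s t fun W => ?_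
  · obtain ⟨W, hW, hxW, hWU⟩ := exists_isAffineOpen_mem_and_subset hx
    exact Opens.mem_iSup.mpr ⟨⟨W, hW, hWU⟩, hxW⟩
  · refine res_injective hreg W.2.1 ?_
    have h' := congrArg (res (inf_le_inf_right _ W.2.2 : W.1 ⊓ locus π q ≤ U ⊓ locus π q)) h
    exact (res_res _ _ _).trans (((res_res _ _ _).symm.trans (h'.trans (res_res _ _ _))).trans (res_res _ _ _).symm)

variable (hprime : ∀ W : X.Opens, IsAffineOpen W → (∃ x ∈ W, x ∉ locus π q) → (Ideal.span {piOn π q W}).IsPrime)
  (hirr : ∀ W W' : X.Opens, (∃ x ∈ W, x ∉ locus π q) → (∃ x ∈ W', x ∉ locus π q) → ∃ x ∈ W ⊓ W', x ∉ locus π q)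
  (f : Γ(X, locus π q)) (hf : IsUnit f)
include hprime hf

omit hirr in
/-- On an affine open the function is a power of `π` times a unit. -/
theorem exists_pow {W : X.Opens} (hW : IsAffineOpen W) (hx : ∃ x ∈ W, x ∉ locus π q) :
    ∃ (i j : ℕ) (u : Γ(X, W)), IsUnit u ∧
      res (inf_le_left : W ⊓ locus π q ≤ W) (piOn π q W) ^ i * res (inf_le_right : W ⊓ locus π q ≤ locus π q) f =
        res (inf_le_left : W ⊓ locus π q ≤ W) (piOn π q W ^ j * u) := by
  letI := (res (inf_le_left : W ⊓ locus π q ≤ W)).toAlgebra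
  haveI := isLocalization π q hW
  obtain ⟨g, hg⟩ := isUnit_iff_exists_inv.mp (hf.map (res (inf_le_right : W ⊓ locus π q ≤ locus π q)))
  obtain ⟨n, a, ha⟩ := IsLocalization.Away.surj (piOn π q W) (res (inf_le_right : W ⊓ locus π q ≤ locus π q) f)
  obtain ⟨m, b, hb⟩ := IsLocalization.Away.surj (piOn π q W) g
  have hab : a * b = piOn π q W ^ (n + m) := by
    refine res_injective hreg hW ?_
    rw [map_mul]
    refine (congrArg₂ (· * ·) ha hb).symm.trans ?_
    rw [mul_mul_mul_comm, hg, _root_.one_mul, ← pow_add, map_pow]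
    rfl
  obtain ⟨j, u, hu, rfl⟩ := exists_pow_mul_unit (hreg W hW) (hprime W hW hx) hab
  exact ⟨n, j, u, hu, by rw [_root_.mul_comm]; exact ha⟩

include hirr in
/-- The extension of the unit. -/
theorem exists_extend [IsLocalRing R] (hπ : π ∈ nonZeroDivisors R) (hm : ¬ IsUnit π)
    (hcl : ∀ x : X, q x = IsLocalRing.closedPoint R → x ∉ locus π q)
    (σ : Spec (CommRingCat.of R) ⟶ X) (hσ : σ ≫ q = 𝟙 _)
    (hone : σ.app (locus π q) f = 1) :
    ∃ g : Γ(X, ⊤), res (le_top : locus π q ≤ ⊤) g = f := by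
  let x₀ := σ (IsLocalRing.closedPoint R)
  have hx₀ : x₀ ∉ locus π q := hcl _ (by rw [← Scheme.Hom.comp_apply, hσ]; rfl)
  obtain ⟨W₀, hW₀, hxW₀, -⟩ := exists_isAffineOpen_mem_and_subset (show x₀ ∈ (⊤ : X.Opens) from trivial)
  obtain ⟨i₀, j₀, u₀, hu₀, he₀⟩ := exists_pow hreg hprime f hf hW₀ ⟨x₀, hxW₀, hx₀⟩
  have htop : σ ⁻¹ᵁ W₀ = ⊤ := IsLocalRing.closed_point_mem_iff.mp hxW₀
  -- the exponents agree at the section
  have hij : i₀ = j₀ := by
    let P : Γ(Spec (CommRingCat.of R), ⊤) := (Scheme.ΓSpecIso (CommRingCat.of R)).inv π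
    have hle : (⊤ : (Spec (CommRingCat.of R)).Opens) ≤ σ ⁻¹ᵁ W₀ := htop.ge
    let O : (Spec (CommRingCat.of R)).Opens := (Spec (CommRingCat.of R)).basicOpen P
    have hσπ : σ.appTop (piX π q) = P := by
      show σ.appTop (q.appTop P) = P
      rw [← ConcreteCategory.comp_apply, ← Scheme.Hom.comp_appTop, hσ]
      rfl
    have hO : σ ⁻¹ᵁ (W₀ ⊓ locus π q) = O := by
      rw [Scheme.Hom.preimage_inf, htop, top_inf_eq, Scheme.preimage_basicOpen]
      exact congrArg (fun z => (Spec (CommRingCat.of R)).basicOpen z) hσπ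
    have key := congrArg (σ.appLE (W₀ ⊓ locus π q) O hO.ge).hom he₀
    simp only [map_mul, map_pow] at key
    have e1 : ∀ z : Γ(X, W₀), (σ.appLE (W₀ ⊓ locus π q) O hO.ge).hom (res inf_le_left z) =
        (Spec (CommRingCat.of R)).presheaf.map (homOfLE (le_top : O ≤ ⊤)).op ((σ.appLE W₀ ⊤ hle).hom z) := by
      intro z
      rw [← ConcreteCategory.comp_apply, ← ConcreteCategory.comp_apply, Scheme.Hom.map_appLE, Scheme.Hom.appLE_map]
    have e2 : (σ.appLE W₀ ⊤ hle).hom (piOn π q W₀) = P := by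
      rw [← ConcreteCategory.comp_apply, Scheme.Hom.map_appLE, ← hσπ]
      exact congrArg (fun k : Γ(X, ⊤) ⟶ Γ(Spec (CommRingCat.of R), σ ⁻¹ᵁ ⊤) => k.hom (piX π q))
        (Scheme.Hom.appLE_eq_app σ (U := ⊤))
    have e3 : (σ.appLE (W₀ ⊓ locus π q) O hO.ge).hom (res inf_le_right f) = 1 := by
      rw [← ConcreteCategory.comp_apply, Scheme.Hom.map_appLE]
      refine Eq.trans (b := (Spec (CommRingCat.of R)).presheaf.map (homOfLE
        (show O ≤ σ ⁻¹ᵁ locus π q from hO ▸ σ.preimage_mono inf_le_right)).op (σ.app (locus π q) f)) ?_ ?_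
      · rw [← ConcreteCategory.comp_apply]
        rfl
      · rw [hone, map_one]
    rw [e1, e1, e2, e3, _root_.mul_one] at key
    let r := ((Spec (CommRingCat.of R)).presheaf.map (homOfLE (le_top : O ≤ ⊤)).op).hom
    change r P ^ i₀ = r P ^ j₀ * r _ at key
    rw [← map_pow r P, ← map_pow r P, ← map_mul r] at key
    letI := ((Spec (CommRingCat.of R)).presheaf.map (homOfLE (le_top : O ≤ ⊤)).op).hom.toAlgebra
    haveI : IsLocalization.Away P Γ(Spec (CommRingCat.of R), O) :=
      (isAffineOpen_top _).isLocalization_of_eq_basicOpen P (homOfLE le_top) rfl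
    let e := (Scheme.ΓSpecIso (CommRingCat.of R)).commRingCatIsoToRingEquiv
    have hP : P ∈ nonZeroDivisors Γ(Spec (CommRingCat.of R), ⊤) := by
      refine mem_nonZeroDivisors_iff_right.mpr fun z hz => e.injective ?_
      rw [map_zero]
      refine (mem_nonZeroDivisors_iff_right.mp hπ) _ ?_
      have := congrArg e hz
      rw [map_mul, map_zero] at this
      rwa [show e P = π from (Scheme.ΓSpecIso (CommRingCat.of R)).inv_hom_id_apply _] at this
    have h1 := IsLocalization.injective (R := Γ(Spec (CommRingCat.of R), ⊤)) Γ(Spec (CommRingCat.of R), O)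
      (M := Submonoid.powers P) (Submonoid.powers_le.mpr hP) key
    refine eq_of_pow_mul_eq hP (fun h => hm ?_) isUnit_one (hu₀.map (σ.appLE W₀ ⊤ hle).hom)
      (by rw [_root_.mul_one]; exact h1)
    have := h.map e
    rwa [show e P = π from (Scheme.ΓSpecIso (CommRingCat.of R)).inv_hom_id_apply _] at this
  subst hij
  have h0 : res (inf_le_left : W₀ ⊓ locus π q ≤ W₀) u₀ = res (inf_le_right : W₀ ⊓ locus π q ≤ locus π q) f := by
    letI := (res (inf_le_left : W₀ ⊓ locus π q ≤ W₀)).toAlgebra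
    haveI := isLocalization π q hW₀
    rw [map_mul, map_pow] at he₀
    exact (((IsLocalization.Away.algebraMap_isUnit (piOn π q W₀) (S := Γ(X, W₀ ⊓ locus π q))).pow i₀).mul_left_cancel
      he₀).symm
  -- local extensions
  have hloc : ∀ W : X.affineOpens, ∃ g : Γ(X, (W : X.Opens)),
      res (inf_le_left : (W : X.Opens) ⊓ locus π q ≤ W) g = res (inf_le_right : (W : X.Opens) ⊓ locus π q ≤ _) f := by
    intro ⟨W, hW⟩
    by_cases hx : ∃ x ∈ W, x ∉ locus π q
    swap
    · have hle : W ≤ locus π q := fun x hxW => by_contra fun h => hx ⟨x, hxW, h⟩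
      exact ⟨res hle f, res_res _ _ _⟩
    obtain ⟨i, j, u, hu, he⟩ := exists_pow hreg hprime f hf hW hx
    obtain ⟨x, hxW, hxn⟩ := hirr W W₀ hx ⟨x₀, hxW₀, hx₀⟩
    obtain ⟨W', hW', hxW', hle⟩ := exists_isAffineOpen_mem_and_subset hxW
    have hle1 : W' ≤ W := hle.trans inf_le_left
    have hle0 : W' ≤ W₀ := hle.trans inf_le_right
    have he' : piOn π q W' ^ i * res hle0 u₀ = piOn π q W' ^ j * res hle1 u := by
      refine res_injective hreg hW' ?_
      have h1 := congrArg (res (inf_le_inf_right _ hle1 : W' ⊓ locus π q ≤ W ⊓ locus π q)) he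
      have h2 := congrArg (res (inf_le_inf_right _ hle0 : W' ⊓ locus π q ≤ W₀ ⊓ locus π q)) h0
      simp only [map_mul, map_pow] at h1
      rw [show res (inf_le_inf_right _ hle1 : W' ⊓ locus π q ≤ W ⊓ locus π q) (res inf_le_right f) =
        res (inf_le_inf_right _ hle0 : W' ⊓ locus π q ≤ W₀ ⊓ locus π q) (res inf_le_right f) from
        (res_res _ _ _).trans (res_res _ _ _).symm, ← h2] at h1
      simp only [map_mul, map_pow, res_res] at h1 ⊢
      exact h1
    have hnu : ¬ IsUnit (piOn π q W') := fun h => hxn (by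
      have := (X.mem_basicOpen (piOn π q W') x hxW').mpr (h.map _)
      rw [Scheme.basicOpen_res] at this
      exact this.2)
    obtain rfl := eq_of_pow_mul_eq (hreg W' hW') hnu (hu₀.map _) (hu.map _) he'
    refine ⟨u, ?_⟩
    letI := (res (inf_le_left : W ⊓ locus π q ≤ W)).toAlgebra
    haveI := isLocalization π q hW
    rw [map_mul, map_pow] at he
    exact (((IsLocalization.Away.algebraMap_isUnit (piOn π q W) (S := Γ(X, W ⊓ locus π q))).pow i).mul_left_cancel
      he).symm
  choose g hg using hloc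
  obtain ⟨G, hG, -⟩ := TopCat.Sheaf.existsUnique_gluing' X.sheaf (fun W : X.affineOpens => (W : X.Opens)) ⊤
    (fun W => homOfLE le_top) (iSup_affineOpens_eq_top X).ge g fun W W' => by
      refine ext_of_locus hreg _ _ ?_
      have h1 := congrArg (res (inf_le_inf_right _ inf_le_left :
        ((W : X.Opens) ⊓ W') ⊓ locus π q ≤ (W : X.Opens) ⊓ locus π q)) (hg W)
      have h2 := congrArg (res (inf_le_inf_right _ inf_le_right :
        ((W : X.Opens) ⊓ W') ⊓ locus π q ≤ (W' : X.Opens) ⊓ locus π q)) (hg W')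
      simp only [res_res] at h1 h2 ⊢
      exact (res_res _ _ _).trans (h1.trans (h2.symm.trans (res_res _ _ _).symm))
  refine ⟨G, TopCat.Sheaf.eq_of_locally_eq' X.sheaf (fun W : X.affineOpens => (W : X.Opens) ⊓ locus π q) (locus π q)
    (fun W => homOfLE inf_le_right) (fun x hx => ?_) _ _ fun W => ?_⟩
  · obtain ⟨W, hW⟩ := Opens.mem_iSup.mp ((iSup_affineOpens_eq_top X).ge (show x ∈ (⊤ : X.Opens) from trivial))
    exact Opens.mem_iSup.mpr ⟨W, hW, hx⟩
  · have h1 := congrArg (res (inf_le_left : (W : X.Opens) ⊓ locus π q ≤ W)) (hG W)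
    exact (res_res _ _ _).trans (((res_res _ _ _).symm.trans h1).trans (hg W))

end Groth.Agent.NormalExtend
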